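import Groth.Agent.SGA1Q.Affine

/-!
The quotient of a finite group action with orbits in affine opens.
-/

universe u

open CategoryTheory AlgebraicGeometry Limits

set_option linter.style.haveILetI false
set_option linter.unusedSectionVars false
set_option backward.isDefEq.respectTransparency.types false

noncomputable section

namespace Groth.Agent.SGA1Q.Glue

open Coeq6 Coeq6.Pred

/-- an action of a finite group on a scheme -/
structure Act where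
  /-- the scheme -/
  U : Scheme.{u}
  /-- the group -/
  H : Type u
  [grp : Group H]
  [fin : Finite H]
  /-- the action -/
  ρ : H →* Aut U

attribute [instance] Act.grp Act.fin

/-- the scheme of arrows -/
abbrev Act.R (G : Act.{u}) : Scheme.{u} := ∐ fun _ : G.H => G.U

/-- source -/
abbrev Act.s (G : Act.{u}) : G.R ⟶ G.U := Base.srcMap G.ρ

/-- target -/
abbrev Act.t (G : Act.{u}) : G.R ⟶ G.U := Base.actMap G.ρ

theorem spec_app {U : Scheme.{u}} {A : CommRingCat.{u}} (φ : A ⟶ Γ(U, ⊤)) :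
    (U.toSpecΓ ≫ Spec.map φ).appTop = (Scheme.ΓSpecIso A).hom ≫ φ := by
  rw [Scheme.Hom.comp_appTop, Scheme.toSpecΓ_appTop]
  exact Scheme.ΓSpecIso_naturality φ

theorem spec_inj {U : Scheme.{u}} (A : Subring Γ(U, ⊤)) :
    Function.Injective (U.toSpecΓ ≫ Spec.map (CommRingCat.ofHom A.subtype)).appTop.hom := by
  rw [spec_app]
  exact Subtype.val_injective.comp (Scheme.ΓSpecIso (CommRingCat.of A)).commRingCatIsoToRingEquiv.injective

theorem spec_range {U : Scheme.{u}} (A : Subring Γ(U, ⊤)) (a : Γ(U, ⊤)) (ha : a ∈ A) :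
    a ∈ Set.range (U.toSpecΓ ≫ Spec.map (CommRingCat.ofHom A.subtype)).appTop.hom := by
  refine ⟨(Scheme.ΓSpecIso (CommRingCat.of A)).inv.hom ⟨a, ha⟩, ?_⟩
  rw [spec_app]
  exact congrArg Subtype.val ((Scheme.ΓSpecIso (CommRingCat.of A)).commRingCatIsoToRingEquiv.apply_symm_apply ⟨a, ha⟩)

variable (G : Act.{u})

/-- two points related by the action -/
def Rel (x y : G.U) : Prop := ∃ r : G.R, G.t r = x ∧ G.s r = y

variable {G}

theorem rel_iff {x y : G.U} : Rel G x y ↔ ∃ g : G.H, (G.ρ g).hom y = x := by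
  constructor
  · rintro ⟨r, rfl, rfl⟩
    obtain ⟨g, z, rfl⟩ := (sigmaOpenCover fun _ : G.H => G.U).exists_eq r
    refine ⟨g, ?_⟩
    show (G.ρ g).hom (G.s (Sigma.ι (fun _ : G.H => G.U) g z)) = G.t (Sigma.ι (fun _ : G.H => G.U) g z)
    rw [← Scheme.Hom.comp_apply, ← Scheme.Hom.comp_apply, ← Scheme.Hom.comp_apply]
    simp
  · rintro ⟨g, rfl⟩
    refine ⟨Sigma.ι (fun _ : G.H => G.U) g y, ?_, ?_⟩ <;> rw [← Scheme.Hom.comp_apply] <;> simp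

theorem rel_symm {x y : G.U} (h : Rel G x y) : Rel G y x := by
  obtain ⟨g, rfl⟩ := rel_iff.1 h
  refine rel_iff.2 ⟨g⁻¹, ?_⟩
  rw [← Scheme.Hom.comp_apply, ← show (G.ρ (g⁻¹ * g)).hom = (G.ρ g).hom ≫ (G.ρ g⁻¹).hom by rw [map_mul]; rfl,
    inv_mul_cancel, map_one]
  rfl

theorem rel_mem {W : G.U.Opens} (hW : G.s ⁻¹ᵁ W = G.t ⁻¹ᵁ W) {x y : G.U} (h : Rel G x y) (hx : x ∈ W) : y ∈ W := by
  obtain ⟨r, rfl, rfl⟩ := h
  show r ∈ G.s ⁻¹ᵁ W
  rw [hW]; exact hx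

variable (G)

/-- source on an invariant open -/
abbrev rs (W : G.U.Opens) : (G.s ⁻¹ᵁ W).toScheme ⟶ W.toScheme := G.s ∣_ W

/-- target on an invariant open -/
abbrev rt (W : G.U.Opens) (hW : G.s ⁻¹ᵁ W = G.t ⁻¹ᵁ W) : (G.s ⁻¹ᵁ W).toScheme ⟶ W.toScheme :=
  G.t.resLE W (G.s ⁻¹ᵁ W) hW.le

/-- invariant affine opens -/
abbrev Idx : Type u := {W : G.U.Opens // G.s ⁻¹ᵁ W = G.t ⁻¹ᵁ W ∧ IsAffineOpen W}

variable {G}

theorem le_preimage (W : Idx G) (g : G.H) : W.1 ≤ (G.ρ g).hom ⁻¹ᵁ W.1 := fun _ hx =>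
  rel_mem W.2.1 (rel_symm (rel_iff.2 ⟨g, rfl⟩)) hx

/-- the restricted action on an element -/
def res (W : Idx G) (g : G.H) : W.1.toScheme ⟶ W.1.toScheme := (G.ρ g).hom.resLE W.1 W.1 (le_preimage W g)

theorem res_mul (W : Idx G) (g h : G.H) : res W (g * h) = res W h ≫ res W g := by
  rw [← cancel_mono W.1.ι]
  simp only [res, Category.assoc, Scheme.Hom.resLE_comp_ι, Scheme.Hom.resLE_comp_ι_assoc]
  rw [map_mul]; rfl

theorem res_one (W : Idx G) : res W 1 = 𝟙 _ := by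
  rw [← cancel_mono W.1.ι]
  simp only [res, Scheme.Hom.resLE_comp_ι, Category.id_comp]
  rw [map_one]
  exact Category.comp_id _

/-- the action on an invariant open -/
def ρW (W : Idx G) : G.H →* Aut W.1.toScheme where
  toFun g := ⟨res W g, res W g⁻¹, by rw [← res_mul, inv_mul_cancel, res_one],
    by rw [← res_mul, mul_inv_cancel, res_one]⟩
  map_one' := Iso.ext (res_one W)
  map_mul' g h := Iso.ext (res_mul W g h)

/-- invariant functions -/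
def inv' (W : Idx G) : Subring Γ(W.1.toScheme, ⊤) where
  carrier := {a | ∀ g : G.H, (ρW W g).hom.appTop.hom a = a}
  mul_mem' ha hb g := by rw [map_mul, ha g, hb g]
  one_mem' g := map_one _
  add_mem' ha hb g := by rw [map_add, ha g, hb g]
  zero_mem' g := map_zero _
  neg_mem' ha g := by rw [map_neg, ha g]

/-- the local quotient -/
abbrev Mloc (W : Idx G) : Scheme.{u} := Spec (CommRingCat.of (inv' W))

/-- the local quotient map -/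
def q (W : Idx G) : W.1.toScheme ⟶ Mloc W :=
  W.1.toScheme.toSpecΓ ≫ Spec.map (CommRingCat.ofHom (inv' W).subtype)

theorem hqW (W : Idx G) : IsQuot (Base.srcMap (ρW W)) (Base.actMap (ρW W)) (q W) ∧ SGA1.IsQuot (ρW W) (q W) := by
  haveI : IsAffine W.1.toScheme := W.2.2
  refine AffineQ.main (fun g => ?_) (spec_inj (inv' W)) fun a ha => spec_range (inv' W) a ha
  rw [q, Scheme.toSpecΓ_naturality_assoc, ← Spec.map_comp]
  congr 2
  ext a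
  exact a.2 g

theorem hq (W : Idx G) : IsQuot (rs G W.1) (rt G W.1 W.2.1) (q W) ∧ IsIntegralHom (q W) := by
  refine ⟨?_, Base.isIntegralHom (hqW W).2⟩
  haveI := Restrict.isOpenImmersion_jR (G := G.H) W.1
  let e := IsOpenImmersion.isoOfRangeEq (Restrict.jR (G := G.H) W.1) (G.s ⁻¹ᵁ W.1).ι (by
    rw [Restrict.range_jR G.ρ W.1, Scheme.Opens.range_ι, Scheme.Opens.range_ι]; rfl)
  have he : e.hom ≫ (G.s ⁻¹ᵁ W.1).ι = Restrict.jR W.1 := IsOpenImmersion.isoOfRangeEq_hom_fac _ _ _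
  have hs : e.hom ≫ rs G W.1 = Base.srcMap (ρW W) := by
    rw [← cancel_mono W.1.ι, Category.assoc, morphismRestrict_ι, reassoc_of% he]
    exact Sigma.hom_ext _ _ fun g => by simp
  have ht : e.hom ≫ rt G W.1 W.2.1 = Base.actMap (ρW W) := by
    rw [← cancel_mono W.1.ι, Category.assoc, Scheme.Hom.resLE_comp_ι, reassoc_of% he]
    exact Sigma.hom_ext _ _ fun g => by
      simp only [colimit.ι_desc_assoc, Cofan.mk_pt, Cofan.mk_ι_app, Category.assoc, Sigma.ι_desc]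
      exact (Scheme.Hom.resLE_comp_ι _ _).symm
  exact Transport.restrict e.inv (𝟙 _) (𝟙 _) (hqW W).1 (by rw [Category.comp_id, ← hs, Iso.inv_hom_id_assoc])
    (by rw [Category.comp_id, ← ht, Iso.inv_hom_id_assoc]) (by simp)
    (by ext x; exact ⟨fun _ => ⟨_, rfl⟩, fun _ => ⟨x, rfl⟩⟩)
    (by
      ext r
      exact ⟨fun _ => ⟨_, rfl⟩, fun _ => ⟨e.hom r, by rw [← Scheme.Hom.comp_apply, Iso.hom_inv_id]; rfl⟩⟩)

theorem invariant_image (W : Idx G) {x y : W.1.toScheme} (h : q W x = q W y) : Rel G x.1 y.1 := by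
  obtain ⟨r, hr₁, hr₂⟩ := (hq W).1.rel x y h
  refine ⟨r.1, ?_, ?_⟩
  · exact (congrArg (fun f => f r) (G.t.resLE_comp_ι W.2.1.le)).symm.trans (congrArg Subtype.val hr₁)
  · exact (congrArg (fun f => f r) (morphismRestrict_ι G.s W.1)).symm.trans (congrArg Subtype.val hr₂)

theorem q_eq_of_rel (W : Idx G) {x y : W.1.toScheme} (h : Rel G x.1 y.1) : q W x = q W y := by
  obtain ⟨r, hr₁, hr₂⟩ := h
  have hr : r ∈ G.s ⁻¹ᵁ W.1 := by
    show G.s r ∈ W.1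
    rw [hr₂]; exact y.2
  have e₁ : rt G W.1 W.2.1 ⟨r, hr⟩ = x := W.1.ι.isOpenEmbedding.injective
    ((congrArg (fun f => f ⟨r, hr⟩) (G.t.resLE_comp_ι W.2.1.le)).trans hr₁)
  have e₂ : rs G W.1 ⟨r, hr⟩ = y := W.1.ι.isOpenEmbedding.injective
    ((congrArg (fun f => f ⟨r, hr⟩) (morphismRestrict_ι G.s W.1)).trans hr₂)
  rw [← e₁, ← e₂]
  exact (congrArg (fun f => f ⟨r, hr⟩) (hq W).1.w).symm

theorem inv_q {W W' : Idx G} (h : W ≤ W') :
    rs G W.1 ≫ G.U.homOfLE h ≫ q W' = rt G W.1 W.2.1 ≫ G.U.homOfLE h ≫ q W' := by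
  let jR : (G.s ⁻¹ᵁ W.1).toScheme ⟶ (G.s ⁻¹ᵁ W'.1).toScheme := G.R.homOfLE (fun r hr => h hr)
  have hs : rs G W.1 ≫ G.U.homOfLE h = jR ≫ rs G W'.1 := by
    rw [← cancel_mono W'.1.ι]; simp [jR, rs]
  have ht : rt G W.1 W.2.1 ≫ G.U.homOfLE h = jR ≫ rt G W'.1 W'.2.1 := by
    rw [← cancel_mono W'.1.ι]; simp [jR, rt]
  rw [reassoc_of% hs, reassoc_of% ht, (hq W').1.w]

/-- transition maps -/
def trans {W W' : Idx G} (h : W ≤ W') : Mloc W ⟶ Mloc W' :=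
  (exists_desc (hq W).1 (G.U.homOfLE h ≫ q W') (inv_q h)).choose

@[reassoc]
theorem trans_spec {W W' : Idx G} (h : W ≤ W') : q W ≫ trans h = G.U.homOfLE h ≫ q W' :=
  (exists_desc (hq W).1 (G.U.homOfLE h ≫ q W') (inv_q h)).choose_spec

variable (G) in
/-- the diagram of local quotients -/
def F : Idx G ⥤ Scheme.{u} where
  obj W := Mloc W
  map f := trans f.le
  map_id W := unique_desc (hq W).1 _ _ (by rw [trans_spec]; simp)
  map_comp {W₁ W₂ W₃} f g := unique_desc (hq W₁).1 _ _ (by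
    rw [trans_spec, trans_spec_assoc, trans_spec, ← Category.assoc, Scheme.homOfLE_homOfLE])

instance isOpenImmersion_map {W W' : Idx G} (f : W ⟶ W') : IsOpenImmersion ((F G).map f) := by
  have h : W ≤ W' := f.le
  show IsOpenImmersion (trans h)
  let O : (Mloc W').Opens := ⟨q W' '' (W'.1.ι ⁻¹ᵁ W.1 : W'.1.toScheme.Opens), (hq W').1.isOpenMap _ (W'.1.ι ⁻¹ᵁ W.1).2⟩
  let jU : W.1.toScheme ⟶ W'.1.toScheme := G.U.homOfLE h
  have hU : Set.range jU = q W' ⁻¹' Set.range O.ι := by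
    rw [Scheme.Opens.range_ι]
    ext x
    constructor
    · rintro ⟨x', rfl⟩
      refine ⟨jU x', ?_, rfl⟩
      show W'.1.ι (jU x') ∈ W.1
      rw [← Scheme.Hom.comp_apply, Scheme.homOfLE_ι]; exact x'.2
    · rintro ⟨y, hy, hyx⟩
      have hx : x.1 ∈ W.1 := rel_mem W.2.1 (rel_symm (invariant_image W' hyx.symm)) hy
      exact ⟨⟨x.1, hx⟩, W'.1.ι.isOpenEmbedding.injective (by rw [← Scheme.Hom.comp_apply, Scheme.homOfLE_ι]; rfl)⟩
  let q'' : W.1.toScheme ⟶ O.toScheme := IsOpenImmersion.lift O.ι (jU ≫ q W') (by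
    rintro _ ⟨x, rfl⟩
    exact (hU.le ⟨x, rfl⟩ : jU x ∈ _))
  have hp : q'' ≫ O.ι = jU ≫ q W' := IsOpenImmersion.lift_fac _ _ _
  let jR : (G.s ⁻¹ᵁ W.1).toScheme ⟶ (G.s ⁻¹ᵁ W'.1).toScheme := G.R.homOfLE (fun r hr => h hr)
  have hsJ : rs G W.1 ≫ jU = jR ≫ rs G W'.1 := by rw [← cancel_mono W'.1.ι]; simp [jR, jU, rs]
  have hR : Set.range jR = rs G W'.1 ⁻¹' Set.range jU := by
    have hs : ∀ r : (G.s ⁻¹ᵁ W'.1).toScheme, (rs G W'.1 r).1 = G.s r.1 :=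
      fun r => congrArg (fun f => f r) (morphismRestrict_ι G.s W'.1)
    ext r
    constructor
    · rintro ⟨r', rfl⟩
      refine ⟨rs G W.1 r', ?_⟩
      rw [← Scheme.Hom.comp_apply, ← Scheme.Hom.comp_apply]
      exact congrArg (fun f : (G.s ⁻¹ᵁ W.1).toScheme ⟶ W'.1.toScheme => f r') hsJ
    · rintro ⟨x, hx⟩
      have hrW : G.s r.1 ∈ W.1 := by
        rw [← hs, ← hx]
        show W'.1.ι (jU x) ∈ W.1
        rw [← Scheme.Hom.comp_apply, Scheme.homOfLE_ι]; exact x.2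
      exact ⟨⟨r.1, hrW⟩, (G.s ⁻¹ᵁ W'.1).ι.isOpenEmbedding.injective (by rw [← Scheme.Hom.comp_apply, Scheme.homOfLE_ι]; rfl)⟩
  have H : IsQuot (rs G W.1) (rt G W.1 W.2.1) q'' := Transport.restrict jR jU O.ι (hq W').1
    (by rw [← cancel_mono W'.1.ι]; simp [jR, jU, rs]) (by rw [← cancel_mono W'.1.ι]; simp [jR, jU, rt]) hp hU hR
  obtain ⟨e, he⟩ := exists_iso (hq W).1 H
  rw [show trans h = e.hom ≫ O.ι from unique_desc (hq W).1 _ _ (by rw [trans_spec, reassoc_of% he, hp])]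
  infer_instance

variable (hcov : ∀ (u : G.U) (O : G.U.Opens), (∀ x, Rel G u x → x ∈ O) →
  ∃ W : G.U.Opens, IsAffineOpen W ∧ u ∈ W ∧ W ≤ O ∧ G.s ⁻¹ᵁ W = G.t ⁻¹ᵁ W)

include hcov in
theorem exists_le (W₁ W₂ : Idx G) (x : G.U) (h₁ : x ∈ W₁.1) (h₂ : x ∈ W₂.1) :
    ∃ W₃ : Idx G, x ∈ W₃.1 ∧ W₃ ≤ W₁ ∧ W₃ ≤ W₂ := by
  obtain ⟨W, hW, hx, hle, hinv⟩ := hcov x (W₁.1 ⊓ W₂.1) fun y hy => ⟨rel_mem W₁.2.1 hy h₁, rel_mem W₂.2.1 hy h₂⟩
  exact ⟨⟨W, hinv, hW⟩, hx, hle.trans inf_le_left, hle.trans inf_le_right⟩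

theorem map_q {W W' : Idx G} (h : W ≤ W') (x : W.1.toScheme) (x' : W'.1.toScheme) (e : x'.1 = x.1) :
    (F G).map (homOfLE h) (q W x) = q W' x' := by
  have hx : G.U.homOfLE h x = x' := W'.1.ι.isOpenEmbedding.injective (by
    rw [← Scheme.Hom.comp_apply, Scheme.homOfLE_ι]; exact e.symm)
  rw [← hx]
  exact congrArg (fun f => f x) (trans_spec h)

include hcov in
theorem locallyDirected : (F G ⋙ Scheme.forget).IsLocallyDirected := by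
  refine ⟨fun {W₁ W₂ W₃} f g a b hab => ?_⟩
  obtain ⟨x, rfl⟩ := (hq W₁).1.surj a
  obtain ⟨y, rfl⟩ := (hq W₂).1.surj b
  have hab' : (F G).map f (q W₁ x) = (F G).map g (q W₂ y) := hab
  rw [show f = homOfLE f.le from rfl, show g = homOfLE g.le from rfl, map_q f.le x ⟨x.1, f.le x.2⟩ rfl,
    map_q g.le y ⟨y.1, g.le y.2⟩ rfl] at hab'
  have hr : Rel G x.1 y.1 := invariant_image W₃ hab'
  have hx₂ : x.1 ∈ W₂.1 := rel_mem W₂.2.1 (rel_symm hr) y.2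
  obtain ⟨W, hx, hW₁, hW₂⟩ := exists_le hcov W₁ W₂ x.1 x.2 hx₂
  refine ⟨W, homOfLE hW₁, homOfLE hW₂, q W ⟨x.1, hx⟩, map_q hW₁ _ x rfl, ?_⟩
  refine (map_q hW₂ ⟨x.1, hx⟩ ⟨x.1, hx₂⟩ rfl).trans ?_
  exact q_eq_of_rel W₂ hr

include hcov in
theorem exists_quot : ∃ (Y : Scheme.{u}) (p : G.U ⟶ Y) (ι : ∀ W : Idx G, Mloc W ⟶ Y),
    (∀ W, IsOpenImmersion (ι W)) ∧ (∀ y, ∃ W m, ι W m = y) ∧ (∀ W, W.1.ι ≫ p = q W ≫ ι W) ∧
    (∀ W : Idx G, p ⁻¹' Set.range (ι W) = (W.1 : Set G.U)) ∧ IsQuot G.s G.t p ∧ IsIntegralHom p := by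
  haveI := locallyDirected hcov
  let Y := colimit (F G)
  let ι : ∀ W : Idx G, Mloc W ⟶ Y := fun W => colimit.ι (F G) W
  haveI hι : ∀ W, IsOpenImmersion (ι W) := fun W => inferInstanceAs (IsOpenImmersion (colimit.ι (F G) W))
  have hpt : ∀ x : G.U, ∃ W : Idx G, x ∈ W.1 := fun x => by
    obtain ⟨W, hW, hx, -, hinv⟩ := hcov x ⊤ (fun _ _ => trivial)
    exact ⟨⟨W, hinv, hW⟩, hx⟩
  have hιq : ∀ {W W' : Idx G} (h : W ≤ W'), q W ≫ ι W = G.U.homOfLE h ≫ q W' ≫ ι W' := fun {W W'} h => by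
    rw [← trans_spec_assoc h]
    congr 1
    exact (colimit.w (F G) (homOfLE h)).symm
  let 𝒰 := G.U.openCoverOfIsOpenCover (fun W : Idx G => W.1)
    (TopologicalSpace.IsOpenCover.mk (eq_top_iff.2 fun x _ => TopologicalSpace.Opens.mem_iSup.2 (hpt x)))
  have hgl : ∀ W₁ W₂ : Idx G, pullback.fst W₁.1.ι W₂.1.ι ≫ q W₁ ≫ ι W₁ = pullback.snd W₁.1.ι W₂.1.ι ≫ q W₂ ≫ ι W₂ := by
    intro W₁ W₂
    let k := pullback.fst W₁.1.ι W₂.1.ι ≫ W₁.1.ι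
    have hk : k = pullback.snd W₁.1.ι W₂.1.ι ≫ W₂.1.ι := pullback.condition
    have key : ∀ z, ∃ W₃ : Idx G, k z ∈ W₃.1 ∧ W₃ ≤ W₁ ∧ W₃ ≤ W₂ := fun z =>
      exists_le hcov W₁ W₂ (k z) (pullback.fst W₁.1.ι W₂.1.ι z).2 (by rw [hk]; exact (pullback.snd W₁.1.ι W₂.1.ι z).2)
    choose W₃ hz h₁ h₂ using key
    refine Scheme.Cover.hom_ext ((pullback W₁.1.ι W₂.1.ι).openCoverOfIsOpenCover (fun z => k ⁻¹ᵁ (W₃ z).1)
      (TopologicalSpace.IsOpenCover.mk (eq_top_iff.2 fun z _ => TopologicalSpace.Opens.mem_iSup.2 ⟨z, hz z⟩))) _ _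
      fun (z : (pullback W₁.1.ι W₂.1.ι : Scheme.{u})) => ?_
    show (k ⁻¹ᵁ (W₃ z).1).ι ≫ _ = (k ⁻¹ᵁ (W₃ z).1).ι ≫ _
    let a := k.resLE (W₃ z).1 (k ⁻¹ᵁ (W₃ z).1) le_rfl
    have ha₁ : (k ⁻¹ᵁ (W₃ z).1).ι ≫ pullback.fst W₁.1.ι W₂.1.ι = a ≫ G.U.homOfLE (h₁ z) := by
      rw [← cancel_mono W₁.1.ι]; simp [a, k]
    have ha₂ : (k ⁻¹ᵁ (W₃ z).1).ι ≫ pullback.snd W₁.1.ι W₂.1.ι = a ≫ G.U.homOfLE (h₂ z) := by
      rw [← cancel_mono W₂.1.ι]; simp [a, hk]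
    rw [reassoc_of% ha₁, reassoc_of% ha₂, ← hιq (h₁ z), ← hιq (h₂ z)]
  let p : G.U ⟶ Y := 𝒰.glueMorphisms (fun W => q W ≫ ι W) hgl
  have hp : ∀ W : Idx G, W.1.ι ≫ p = q W ≫ ι W := fun W => Scheme.Cover.ι_glueMorphisms 𝒰 _ hgl W
  have hpW : ∀ (W : Idx G) (x : W.1.toScheme), p x.1 = ι W (q W x) := fun W x => congrArg (fun f => f x) (hp W)
  have hpre : ∀ W : Idx G, p ⁻¹' Set.range (ι W) = (W.1 : Set G.U) := by
    intro W
    ext x
    refine ⟨fun ⟨m, hm⟩ => ?_, fun hx => ⟨q W ⟨x, hx⟩, (hpW W ⟨x, hx⟩).symm⟩⟩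
    obtain ⟨W', hx⟩ := hpt x
    rw [hpW W' ⟨x, hx⟩] at hm
    obtain ⟨W'', f, g, z, hz, hz'⟩ := (Scheme.IsLocallyDirected.ι_eq_ι_iff (F := F G)).1 hm
    obtain ⟨x'', rfl⟩ := (hq W'').1.surj z
    rw [show g = homOfLE g.le from rfl, map_q g.le x'' ⟨x''.1, g.le x''.2⟩ rfl] at hz'
    exact f.le (rel_mem W''.2.1 (invariant_image W' hz') x''.2)
  have hsurj : ∀ y, ∃ W m, ι W m = y := fun y => Scheme.IsLocallyDirected.ι_jointly_surjective (F G) y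
  refine ⟨Y, p, ι, hι, hsurj, hp, hpre, ⟨?_, fun y => ?_, fun O hO => ?_, fun x y h => ?_, fun y V hy => ?_⟩, ?_⟩
  · refine Scheme.Cover.hom_ext (G.R.openCoverOfIsOpenCover (fun W : Idx G => G.s ⁻¹ᵁ W.1)
      (TopologicalSpace.IsOpenCover.mk (eq_top_iff.2 fun r _ => TopologicalSpace.Opens.mem_iSup.2 (hpt (G.s r))))) _ _
      fun (W : Idx G) => ?_
    show (G.s ⁻¹ᵁ W.1).ι ≫ G.s ≫ p = (G.s ⁻¹ᵁ W.1).ι ≫ G.t ≫ p
    rw [← morphismRestrict_ι_assoc, ← Scheme.Hom.resLE_comp_ι_assoc (f := G.t) W.2.1.le, hp, reassoc_of% (hq W).1.w]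
  · obtain ⟨W, m, rfl⟩ := hsurj y
    obtain ⟨x, rfl⟩ := (hq W).1.surj m
    exact ⟨x.1, hpW W x⟩
  · have : p '' O = ⋃ W : Idx G, ι W '' (q W '' (W.1.ι ⁻¹' O)) := by
      ext y
      simp only [Set.mem_iUnion, Set.mem_image, Set.mem_preimage]
      constructor
      · rintro ⟨x, hx, rfl⟩
        obtain ⟨W, hxW⟩ := hpt x
        exact ⟨W, _, ⟨⟨x, hxW⟩, hx, rfl⟩, (hpW W ⟨x, hxW⟩).symm⟩
      · rintro ⟨W, _, ⟨x, hx, rfl⟩, rfl⟩
        exact ⟨x.1, hx, hpW W x⟩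
    rw [this]
    exact isOpen_iUnion fun W => (ι W).isOpenEmbedding.isOpenMap _ ((hq W).1.isOpenMap _ (hO.preimage W.1.ι.continuous))
  · obtain ⟨W, hx⟩ := hpt x
    have hy : y ∈ W.1 := (hpre W).le ⟨q W ⟨x, hx⟩, (hpW W ⟨x, hx⟩).symm.trans h⟩
    refine invariant_image W (x := ⟨x, hx⟩) (y := ⟨y, hy⟩) ((ι W).isOpenEmbedding.injective ?_)
    rw [← hpW, ← hpW]; exact h
  · obtain ⟨W, m, rfl⟩ := hsurj y
    refine Transport.loc_image (G.s ⁻¹ᵁ W.1).ι W.1.ι (ι W) (hq W).1 (morphismRestrict_ι _ _)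
      (Scheme.Hom.resLE_comp_ι _ _) (hp W).symm ?_ ?_ m V hy
    · rw [Scheme.Opens.range_ι]; exact (hpre W).symm
    · rw [Scheme.Opens.range_ι, Scheme.Opens.range_ι]; rfl
  · refine (IsZariskiLocalAtTarget.iff_of_iSup_eq_top (P := @IsIntegralHom) (fun W : Idx G => (ι W).opensRange)
      (eq_top_iff.2 fun y _ => TopologicalSpace.Opens.mem_iSup.2 (hsurj y))).2 fun W => ?_
    have hW : p ⁻¹ᵁ (ι W).opensRange = W.1 := TopologicalSpace.Opens.ext (hpre W)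
    haveI := (hq W).2
    have e : p ∣_ (ι W).opensRange = (G.U.isoOfEq hW).hom ≫ q W ≫ (ι W).isoOpensRange.hom := by
      rw [← cancel_mono (ι W).opensRange.ι]
      simp [← hp W]
    rw [e]
    infer_instance

end Groth.Agent.SGA1Q.Glue

end
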