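import Groth.Agent.SGA1Q.Base
import Groth.Agent.Coeq6.AlgSpaces
import Mathlib.RingTheory.Adjoin.Tower
import Mathlib.AlgebraicGeometry.Morphisms.Finite

/-!
Properties inherited by quotients by finite groups.
-/

universe u

open CategoryTheory AlgebraicGeometry Limits
open scoped Pointwise

set_option linter.style.haveILetI false
set_option backward.isDefEq.respectTransparency.types false

noncomputable section

namespace Groth.Agent.SGA1Q.Props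

variable {X Y : Scheme.{u}} {G : Type u} [Group G] [Finite G] {ρ : G →* Aut X} {p : X ⟶ Y}
  (hp : SGA1.IsQuot ρ p)

include hp in
theorem isAffineOpen_of_preimage (V : Y.Opens) (hXV : IsAffineOpen (p ⁻¹ᵁ V)) : IsAffineOpen V := by
  classical
  have key : ∀ y : V, ∃ b : Γ(Y, V), IsAffineOpen (Y.basicOpen b) ∧ y.1 ∈ Y.basicOpen b := by
    intro y
    obtain ⟨x, hx⟩ := Base.surjective hp y.1
    obtain ⟨_, ⟨E₀, hE, rfl⟩, hyE, hEV⟩ := Y.isBasis_affineOpens.exists_subset_of_mem_open y.2 V.2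
    let E : Y.Opens := E₀
    have hxg : ∀ g : G, (ρ g).hom x ∈ p ⁻¹ᵁ V := fun g => by
      show p ((ρ g).hom x) ∈ V
      rw [Base.inv_apply g x hp, hx]; exact y.2
    let F : Set (Spec Γ(X, p ⁻¹ᵁ V)) := Set.range fun g : G => hXV.primeIdealOf ⟨_, hxg g⟩
    obtain ⟨f₀, hf₁, hf₂⟩ := Coeq6.Invariant.exists_basicOpen (hXV.fromSpec ⁻¹ᵁ (p ⁻¹ᵁ E)) F (Set.finite_range _) (by
      rintro _ ⟨g, rfl⟩
      show p (hXV.fromSpec _) ∈ E
      rw [hXV.fromSpec_primeIdealOf, Base.inv_apply g x hp, hx]; exact hyE)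
    let f : Γ(X, p ⁻¹ᵁ V) := (Scheme.ΓSpecIso Γ(X, p ⁻¹ᵁ V)).hom.hom f₀
    have hfD : ∀ z : p ⁻¹ᵁ V, z.1 ∈ X.basicOpen f ↔ hXV.primeIdealOf z ∈ (Spec Γ(X, p ⁻¹ᵁ V)).basicOpen f₀ := by
      intro z
      rw [basicOpen_eq_of_affine']
      show _ ↔ f ∉ (hXV.primeIdealOf z).asIdeal
      rw [Base.mem_prime, not_not]
    haveI := Fintype.ofFinite G
    let a : Γ(X, p ⁻¹ᵁ V) := ∏ g : G, Base.σ hp V g f
    obtain ⟨b, hb⟩ := (hp.range_iff V a).2 fun k => by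
      show Base.σ hp V k a = a
      simp only [a, map_prod, ← Base.σ_mul]
      exact Fintype.prod_equiv (Equiv.mulRight k) _ _ fun g => rfl
    have hbD : ∀ z : p ⁻¹ᵁ V, p z.1 ∈ Y.basicOpen b ↔ ∀ g : G, (ρ g).hom z.1 ∈ X.basicOpen f := by
      intro z
      have h1 : p z.1 ∈ Y.basicOpen b ↔ z.1 ∈ X.basicOpen ((p.app V).hom b) := by
        rw [← Scheme.preimage_basicOpen]; rfl
      rw [h1, hb, show X.basicOpen a = X.basicOpen (∏ g : G, Base.σ hp V g f) from rfl]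
      rw [← not_iff_not, ← Base.mem_prime hXV z, Ideal.IsPrime.prod_mem_iff]
      simp only [Finset.mem_univ, true_and, not_forall, Base.mem_prime, Base.σ, Scheme.basicOpen_appLE]
      exact exists_congr fun g => not_congr ⟨fun h => h.2, fun h => ⟨z.2, h⟩⟩
    have hle : Y.basicOpen b ≤ E := by
      intro w hw
      obtain ⟨z, rfl⟩ := Base.surjective hp w
      have hz : z ∈ p ⁻¹ᵁ V := Y.basicOpen_le b hw
      have h1 := (hbD ⟨z, hz⟩).1 hw 1
      rw [show (ρ 1).hom z = z by rw [map_one]; rfl] at h1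
      have h2 := hf₁ ((hfD ⟨z, hz⟩).1 h1)
      show p z ∈ E
      have h3 : hXV.fromSpec (hXV.primeIdealOf ⟨z, hz⟩) = z := hXV.fromSpec_primeIdealOf ⟨z, hz⟩
      rw [← h3]; exact h2
    refine ⟨b, ?_, ?_⟩
    · have e : Y.basicOpen ((Y.presheaf.map (homOfLE (hEV : E ≤ V)).op).hom b) = Y.basicOpen b := by
        rw [Scheme.basicOpen_res]; exact inf_eq_right.2 hle
      rw [← e]; exact IsAffineOpen.basicOpen hE _
    · rw [← hx]
      refine (hbD ⟨x, by show p x ∈ V; rw [hx]; exact y.2⟩).2 fun g => (hfD ⟨_, hxg g⟩).2 (hf₂ ⟨g, rfl⟩)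
  choose b hb hyb using key
  refine isAffineOpen_of_isAffineOpen_basicOpen V (Set.range b) ?_ (by rintro _ ⟨y, rfl⟩; exact hb y)
  by_contra hne
  obtain ⟨Q, hQ, hle⟩ := Ideal.exists_le_maximal _ hne
  letI := Base.act hp V
  letI := (p.app V).hom.toAlgebra
  haveI := (Base.setup hp V).1
  obtain ⟨P, hP⟩ := RingHom.IsIntegral.comap_surjective (f := (p.app V).hom)
    (Algebra.IsInvariant.isIntegral Γ(Y, V) Γ(X, p ⁻¹ᵁ V) G).isIntegral (hp.injective V) ⟨Q, hQ.isPrime⟩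
  have hz : hXV.fromSpec P ∈ p ⁻¹ᵁ V := by
    have : hXV.fromSpec P ∈ Set.range hXV.fromSpec := ⟨P, rfl⟩
    rwa [hXV.range_fromSpec] at this
  have hPz : hXV.primeIdealOf ⟨_, hz⟩ = P := hXV.fromSpec.isOpenEmbedding.injective (hXV.fromSpec_primeIdealOf _)
  have h1 : b ⟨p (hXV.fromSpec P), hz⟩ ∈ Q := hle (Ideal.subset_span ⟨_, rfl⟩)
  have h2 : (p.app V).hom (b ⟨p (hXV.fromSpec P), hz⟩) ∈ P.asIdeal := by
    exact (congrArg PrimeSpectrum.asIdeal hP).symm.le h1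
  have h3 := (iff_of_eq (congrArg (fun Q : PrimeSpectrum Γ(X, p ⁻¹ᵁ V) =>
    (p.app V).hom (b ⟨p (hXV.fromSpec P), hz⟩) ∈ Q.asIdeal) hPz)).2 h2
  rw [Base.mem_prime, ← Scheme.preimage_basicOpen] at h3
  exact h3 (hyb ⟨p (hXV.fromSpec P), hz⟩)

include hp in
theorem main {Z : Scheme.{u}} (f : X ⟶ Z) (q : Y ⟶ Z) (hq : p ≫ q = f) :
    (IsAffineHom f ↔ IsAffineHom q) ∧ (IsSeparated f ↔ IsSeparated q) ∧
      (LocallyOfFiniteType f → IsFinite p) ∧
      (IsLocallyNoetherian Z → LocallyOfFiniteType f → QuasiCompact f → LocallyOfFiniteType q ∧ QuasiCompact q) := by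
  subst hq
  haveI := hp.affine
  haveI := Base.isIntegralHom hp
  haveI : Surjective p := ⟨Base.surjective hp⟩
  refine ⟨⟨fun h => ⟨fun W hW => ?_⟩, fun h => inferInstance⟩, ⟨fun h => ?_, fun h => inferInstance⟩, fun h => ?_, ?_⟩
  · exact isAffineOpen_of_preimage hp _ (hW.preimage (p ≫ q))
  · exact Coeq6.AlgSpaces.isSeparated_of_surjective p q
  · haveI := locallyOfFiniteType_of_comp p q
    exact (IsFinite.iff_isIntegralHom_and_locallyOfFiniteType p).2 ⟨inferInstance, inferInstance⟩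
  · intro hZ hf hqc
    refine ⟨?_, ⟨fun W hW hWc => ?_⟩⟩
    swap
    · have : p '' ((p ≫ q) ⁻¹' W) = q ⁻¹' W := by
        show p '' (p ⁻¹' (q ⁻¹' W)) = _
        rw [Set.image_preimage_eq _ p.surjective]
      rw [← this]
      exact (hqc.isCompact_preimage W hW hWc).image p.continuous
    rw [HasRingHomProperty.iff_appLE (P := @LocallyOfFiniteType)]
    intro W V e
    have e' : p ⁻¹ᵁ V.1 ≤ (p ≫ q) ⁻¹ᵁ W.1 := fun z hz => e hz
    have hft : ((p ≫ q).appLE W.1 (p ⁻¹ᵁ V.1) e').hom.FiniteType :=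
      HasRingHomProperty.appLE (P := @LocallyOfFiniteType) (p ≫ q) hf W ⟨_, V.2.preimage p⟩ e'
    rw [← show (q.appLE W.1 V.1 e) ≫ p.app V.1 = (p ≫ q).appLE W.1 (p ⁻¹ᵁ V.1) e' from by
      rw [Scheme.Hom.app_eq_appLE, Scheme.Hom.appLE_comp_appLE]] at hft
    haveI := IsLocallyNoetherian.component_noetherian W
    letI := (q.appLE W.1 V.1 e).hom.toAlgebra
    letI : Algebra Γ(Y, V.1) Γ(X, p ⁻¹ᵁ V.1) := (p.app V.1).hom.toAlgebra
    letI : Algebra Γ(Z, W.1) Γ(X, p ⁻¹ᵁ V.1) := (q.appLE W.1 V.1 e ≫ p.app V.1).hom.toAlgebra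
    haveI : IsScalarTower Γ(Z, W.1) Γ(Y, V.1) Γ(X, p ⁻¹ᵁ V.1) := IsScalarTower.of_algebraMap_eq' rfl
    haveI : Algebra.FiniteType Γ(Z, W.1) Γ(X, p ⁻¹ᵁ V.1) := hft
    haveI : Algebra.IsIntegral Γ(Y, V.1) Γ(X, p ⁻¹ᵁ V.1) := ⟨(Base.isIntegralHom hp).isIntegral_app V.1 V.2⟩
    haveI : Algebra.FiniteType Γ(Y, V.1) Γ(X, p ⁻¹ᵁ V.1) := Algebra.FiniteType.of_restrictScalars_finiteType Γ(Z, W.1) _ _
    haveI : Module.Finite Γ(Y, V.1) Γ(X, p ⁻¹ᵁ V.1) := Algebra.IsIntegral.finite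
    exact ⟨fg_of_fg_of_fg Γ(Z, W.1) Γ(Y, V.1) Γ(X, p ⁻¹ᵁ V.1) Algebra.FiniteType.out Module.Finite.fg_top (hp.injective V.1)⟩

end Groth.Agent.SGA1Q.Props

end
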