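import Mathlib.RepresentationTheory.Invariants
import Mathlib.RingTheory.Flat.Basic
import Mathlib.RingTheory.Invariant.Basic
import Mathlib.LinearAlgebra.TensorProduct.Pi

/-!
Invariants of finite groups and base change.
-/

universe u v w w'

open TensorProduct

noncomputable section

namespace Groth.Agent.SGA1Q.Average

theorem main {R : Type u} [CommRing R] {G : Type v} [Group G] [Finite G] (hG : IsUnit ((Nat.card G : ℕ) : R))
    {M : Type w} {N : Type w'} [AddCommGroup M] [Module R M] [AddCommGroup N] [Module R N]
    (ρ : Representation R G M) :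
    Function.Injective (LinearMap.rTensor N ρ.invariants.subtype) ∧
      ∀ x : M ⊗[R] N, x ∈ LinearMap.range (LinearMap.rTensor N ρ.invariants.subtype) ↔
        ∀ g, LinearMap.rTensor N (ρ g) x = x := by
  classical
  cases nonempty_fintype G
  obtain ⟨u, hu⟩ := hG
  let e : M →ₗ[R] M := (↑u⁻¹ : R) • ∑ g : G, ρ g
  have hmem : ∀ m, e m ∈ ρ.invariants := fun m h => by
    simp only [e, LinearMap.smul_apply, LinearMap.sum_apply, map_smul, map_sum]
    congr 1
    exact Fintype.sum_equiv (Equiv.mulLeft h) _ _ fun g => by simp [map_mul]
  let π : M →ₗ[R] ρ.invariants := e.codRestrict _ hmem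
  have hπ : π ∘ₗ ρ.invariants.subtype = LinearMap.id := by
    refine LinearMap.ext fun m => Subtype.ext ?_
    show e m.1 = m.1
    simp only [e, LinearMap.smul_apply, LinearMap.sum_apply]
    rw [Finset.sum_congr rfl fun g _ => m.2 g]
    rw [Finset.sum_const, Finset.card_univ, ← Nat.card_eq_fintype_card, ← Nat.cast_smul_eq_nsmul R, smul_smul, ← hu,
      Units.inv_mul, one_smul]
  refine ⟨fun a b h => ?_, fun x => ⟨?_, fun hx => ?_⟩⟩
  · have := congrArg (LinearMap.rTensor N π) h
    rwa [← LinearMap.comp_apply, ← LinearMap.comp_apply, ← LinearMap.rTensor_comp, hπ, LinearMap.rTensor_id] at this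
  · rintro ⟨y, rfl⟩ g
    rw [← LinearMap.comp_apply, ← LinearMap.rTensor_comp]
    congr 2
    exact LinearMap.ext fun m => m.2 g
  · refine ⟨LinearMap.rTensor N π x, ?_⟩
    rw [← LinearMap.comp_apply, ← LinearMap.rTensor_comp]
    show LinearMap.rTensor N e x = x
    have h : LinearMap.rTensor N e = (↑u⁻¹ : R) • ∑ g : G, LinearMap.rTensor N (ρ g) := by
      apply TensorProduct.ext'
      intro m n
      simp [e, TensorProduct.smul_tmul', TensorProduct.sum_tmul]
    rw [h, LinearMap.smul_apply, LinearMap.sum_apply]
    simp only [hx]
    rw [Finset.sum_const, Finset.card_univ, ← Nat.card_eq_fintype_card, ← Nat.cast_smul_eq_nsmul R, smul_smul, ← hu,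
      Units.inv_mul, one_smul]

theorem flat (S R A : Type u) (G : Type v) [CommRing S] [CommRing R] [Algebra S R]
    [FaithfulSMul S R] [Group G] [Finite G] [MulSemiringAction G R] [SMulCommClass G S R]
    [Algebra.IsInvariant S R G] [CommRing A] [Algebra S A] [Module.Flat S A] :
    Function.Injective (algebraMap A (TensorProduct S A R)) ∧
    ∀ x : TensorProduct S A R,
      (∀ σ : G, Algebra.TensorProduct.map (AlgHom.id S A) (MulSemiringAction.toAlgHom S R σ) x = x) →
      x ∈ Set.range (algebraMap A (TensorProduct S A R)) := by
  classical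
  cases nonempty_fintype G
  let i : S →ₗ[S] R := Algebra.linearMap S R
  let d : R →ₗ[S] (G → R) := LinearMap.pi fun g => (MulSemiringAction.toAlgHom S R g).toLinearMap - LinearMap.id
  have hi : Function.Injective i := FaithfulSMul.algebraMap_injective S R
  have hex : Function.Exact i d := fun r => by
    constructor
    · intro h
      exact Algebra.IsInvariant.isInvariant (G := G) r fun g => sub_eq_zero.1 (congrFun h g)
    · rintro ⟨s, rfl⟩
      funext g
      simp [d, i]
  have key : ∀ a : A, algebraMap A (TensorProduct S A R) a = LinearMap.lTensor A i ((TensorProduct.rid S A).symm a) := fun a => by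
    simp [i, Algebra.TensorProduct.algebraMap_apply]
  refine ⟨fun a b h => ?_, fun x hx => ?_⟩
  · rw [key, key] at h
    exact (TensorProduct.rid S A).symm.injective (Module.Flat.lTensor_preserves_injective_linearMap i hi h)
  · have hz : LinearMap.lTensor A d x = 0 := by
      apply (TensorProduct.piRight S S A fun _ : G => R).injective
      funext g
      have hg : ∀ y : TensorProduct S A R, TensorProduct.piRight S S A (fun _ : G => R) (LinearMap.lTensor A d y) g =
          Algebra.TensorProduct.map (AlgHom.id S A) (MulSemiringAction.toAlgHom S R g) y - y := by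
        intro y
        induction y with
        | zero => simp
        | tmul a r => simp [d, TensorProduct.tmul_sub]
        | add y z hy hz => simp only [map_add, Pi.add_apply, hy, hz]; abel
      rw [hg, hx g, sub_self]
      simp
    obtain ⟨y, hy⟩ := (Module.Flat.lTensor_exact A hex x).1 hz
    exact ⟨TensorProduct.rid S A y, by rw [key, LinearEquiv.symm_apply_apply, hy]⟩

end Groth.Agent.SGA1Q.Average

end
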