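import Groth.Agent.SGA1Q.GeomOrbit
import Groth.Agent.UnivHomeo.Basic
import Mathlib.FieldTheory.IsAlgClosed.Basic
import Mathlib.AlgebraicGeometry.Morphisms.Flat
import Mathlib.AlgebraicGeometry.Morphisms.Proper
import Mathlib.AlgebraicGeometry.Morphisms.SchemeTheoreticallyDominant

/-!
Comparison of quotients by finite groups is a universal homeomorphism.
-/

universe u

open CategoryTheory AlgebraicGeometry Limits

set_option linter.style.haveILetI false
set_option backward.isDefEq.respectTransparency.types false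

noncomputable section

namespace Groth.Agent.SGA1Q.Comparison

theorem exists_lift {X Y : Scheme.{u}} (r : X ⟶ Y) [IsIntegralHom r] [Surjective r] {K : Type u} [Field K]
    [IsAlgClosed K] (w : Spec (CommRingCat.of K) ⟶ Y) : ∃ z, z ≫ r = w := by
  let P := pullback r w
  let s : P ⟶ Spec (CommRingCat.of K) := pullback.snd r w
  haveI : IsAffine P := isAffine_of_isAffineHom s
  haveI : IsIntegralHom s := MorphismProperty.pullback_snd _ _ inferInstance
  haveI : Surjective s := MorphismProperty.pullback_snd _ _ inferInstance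
  obtain ⟨x, -⟩ := s.surjective (IsLocalRing.closedPoint K)
  let φ := (Scheme.ΓSpecIso (CommRingCat.of K)).inv ≫ s.appTop
  have hint : φ.hom.IsIntegral := by
    have h1 : s.appTop.hom.IsIntegral :=
      ((HasAffineProperty.iff_of_isAffine (P := @IsIntegralHom)).1 (inferInstanceAs (IsIntegralHom s))).2
    exact RingHom.IsIntegral.trans _ _ (RingHom.isIntegral_of_surjective _
      (Scheme.ΓSpecIso (CommRingCat.of K)).commRingCatIsoToRingEquiv.symm.surjective) h1
  haveI : Nontrivial Γ(P, ⊤) := by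
    have := (P.isoSpec.hom x).2
    exact ⟨⟨0, 1, fun e => this.ne_top ((Ideal.eq_top_iff_one _).2 (by rw [← e]; exact zero_mem _))⟩⟩
  obtain ⟨m, hm⟩ := Ideal.exists_maximal Γ(P, ⊤)
  letI := Ideal.Quotient.field m
  let ψ : K →+* Γ(P, ⊤) ⧸ m := (Ideal.Quotient.mk m).comp φ.hom
  have hb := IsAlgClosed.ringHom_bijective_of_isIntegral ψ
    (RingHom.IsIntegral.trans _ _ hint (RingHom.isIntegral_of_surjective _ Ideal.Quotient.mk_surjective))
  let e := RingEquiv.ofBijective ψ hb
  let χ : Γ(P, ⊤) ⟶ CommRingCat.of K := CommRingCat.ofHom (e.symm.toRingHom.comp (Ideal.Quotient.mk m))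
  refine ⟨Spec.map χ ≫ P.isoSpec.inv ≫ pullback.fst r w, ?_⟩
  rw [Category.assoc, Category.assoc, pullback.condition]
  suffices h : Spec.map χ ≫ P.isoSpec.inv ≫ s = 𝟙 _ by
    rw [← Category.assoc P.isoSpec.inv, ← Category.assoc, h, Category.id_comp]
  have : P.isoSpec.inv ≫ s = Spec.map φ := by
    rw [Iso.inv_comp_eq]
    refine ext_of_isAffine ?_
    simp [φ, Scheme.isoSpec_hom, Scheme.Hom.comp_appTop, Scheme.toSpecΓ_appTop, Scheme.ΓSpecIso_naturality]
  rw [this, ← Spec.map_comp, ← Spec.map_id]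
  congr 1
  exact CommRingCat.hom_ext (RingHom.ext fun a => e.symm_apply_apply a)

theorem universallyInjective_of {X Y : Scheme.{u}} (f : X ⟶ Y)
    (h : ∀ (K : Type u) [Field K] [IsAlgClosed K] (a b : Spec (CommRingCat.of K) ⟶ X), a ≫ f = b ≫ f → a = b) :
    UniversallyInjective f := by
  refine ((tfae_universallyInjective f).out 0 1).2 fun K hK a b hab => ?_
  letI := hK
  let c := Spec.map (CommRingCat.ofHom (algebraMap K (AlgebraicClosure K)))
  haveI : Flat c := by
    refine (HasRingHomProperty.Spec_iff (P := @Flat)).2 ?_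
    exact RingHom.flat_algebraMap_iff.2 inferInstance
  haveI : Surjective c := ⟨fun y => ⟨IsLocalRing.closedPoint (AlgebraicClosure K), Subsingleton.elim _ _⟩⟩
  haveI := Flat.epi_of_flat_of_surjective c
  rw [← cancel_epi c]
  exact h _ _ _ (by simpa using congrArg (c ≫ ·) hab)

variable {X Y S S' Y' : Scheme.{u}} {G : Type u} [Group G] [Finite G]

theorem baseChange (ρ : G →* Aut X) (f : X ⟶ S)
    (q : X ⟶ Y) (h : Y ⟶ S) (hq : q ≫ h = f) (hquot : SGA1.IsQuot ρ q) (g : S' ⟶ S)
    (ρ' : G →* Aut (pullback f g))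
    (hρ' : ∀ σ : G, (ρ' σ).hom ≫ pullback.fst f g = pullback.fst f g ≫ (ρ σ).hom ∧
      (ρ' σ).hom ≫ pullback.snd f g = pullback.snd f g)
    (r : pullback f g ⟶ Y') (hr : SGA1.IsQuot ρ' r)
    (m : Y' ⟶ pullback h g)
    (hm : r ≫ m = pullback.map f g h g q (𝟙 S') (𝟙 S)
      ((Category.comp_id f).trans hq.symm) ((Category.comp_id g).trans (Category.id_comp g).symm)) :
    FlatMor.IsUnivHomeo m := by
  haveI := SGA1Q.Base.isIntegralHom hr
  haveI : Surjective r := ⟨SGA1Q.Base.surjective hr⟩
  haveI := SGA1Q.Base.isIntegralHom hquot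
  haveI : Surjective q := ⟨SGA1Q.Base.surjective hquot⟩
  let M := pullback.map f g h g q (𝟙 S') (𝟙 S)
    ((Category.comp_id f).trans hq.symm) ((Category.comp_id g).trans (Category.id_comp g).symm)
  have sq : IsPullback (pullback.fst f g) M q (pullback.fst h g) := by
    refine IsPullback.of_bot ?_ (by simp [M, pullback.map, pullback.lift_fst]) (IsPullback.of_hasPullback h g)
    convert IsPullback.of_hasPullback f g using 1
    · simp [M, pullback.map, pullback.lift_snd]
  haveI : UniversallyClosed M := MorphismProperty.of_isPullback sq inferInstance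
  haveI : Surjective M := MorphismProperty.of_isPullback sq inferInstance
  haveI : UniversallyClosed (r ≫ m) := by rw [hm]; infer_instance
  haveI : UniversallyClosed m := .of_comp_surjective r m
  haveI : Surjective (r ≫ m) := by rw [hm]; infer_instance
  haveI : Surjective m := Surjective.of_comp r m
  haveI : UniversallyInjective m := universallyInjective_of m fun K _ _ w₁ w₂ hw => by
    obtain ⟨z₁, rfl⟩ := exists_lift r w₁
    obtain ⟨z₂, rfl⟩ := exists_lift r w₂
    simp only [Category.assoc, hm] at hw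
    have e1 := congrArg (· ≫ pullback.fst h g) hw
    have e2 := congrArg (· ≫ pullback.snd h g) hw
    simp only [Category.assoc, pullback.map, pullback.lift_fst, pullback.lift_snd, Category.comp_id] at e1 e2
    obtain ⟨σ, hσ⟩ := GeomOrbit.main hquot (z₁ ≫ pullback.fst f g) (z₂ ≫ pullback.fst f g) (by simpa using e1)
    have : z₁ ≫ (ρ' σ).hom = z₂ := by
      apply pullback.hom_ext
      · rw [Category.assoc, (hρ' σ).1, ← Category.assoc, hσ]
      · rw [Category.assoc, (hρ' σ).2, e2]
    rw [← this, Category.assoc, hr.inv]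
  exact Groth.Agent.UnivHomeo.Basic.isUnivHomeo_of m

theorem closedImage {X Y Z W : Scheme.{u}} (ρ : G →* Aut X) (q : X ⟶ Y) (hquot : SGA1.IsQuot ρ q)
    (i : Z ⟶ X) [IsClosedImmersion i] (ρZ : G →* Aut Z) (hρZ : ∀ σ : G, (ρZ σ).hom ≫ i = i ≫ (ρ σ).hom)
    (r : Z ⟶ W) (hr : SGA1.IsQuot ρZ r)
    (m : W ⟶ (i ≫ q).ker.subscheme) (hm : r ≫ m ≫ (i ≫ q).ker.subschemeι = i ≫ q) :
    FlatMor.IsUnivHomeo m ∧ IsSchemeTheoreticallyDominant m := by
  haveI := SGA1Q.Base.isIntegralHom hr
  haveI : Surjective r := ⟨SGA1Q.Base.surjective hr⟩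
  haveI := SGA1Q.Base.isIntegralHom hquot
  have e : r ≫ m = (i ≫ q).toImage := by
    rw [← cancel_mono (i ≫ q).imageι, Scheme.Hom.toImage_imageι, Category.assoc]
    exact hm
  haveI : UniversallyClosed (i ≫ q).toImage := by
    haveI : UniversallyClosed ((i ≫ q).toImage ≫ (i ≫ q).imageι) := by
      rw [Scheme.Hom.toImage_imageι]; infer_instance
    exact .of_comp_of_isSeparated _ (i ≫ q).imageι
  haveI : Surjective (i ≫ q).toImage := by
    refine ⟨fun y => ?_⟩
    have h1 : Set.range (i ≫ q).toImage = Set.univ := by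
      rw [← (Scheme.Hom.isClosedMap (i ≫ q).toImage).isClosed_range.closure_eq]
      exact ((i ≫ q).toImage.denseRange).closure_range
    exact h1.ge (Set.mem_univ y)
  haveI : UniversallyClosed (r ≫ m) := by rw [e]; infer_instance
  haveI : UniversallyClosed m := .of_comp_surjective r m
  haveI : Surjective (r ≫ m) := by rw [e]; infer_instance
  haveI : Surjective m := Surjective.of_comp r m
  haveI : UniversallyInjective m := universallyInjective_of m fun K _ _ w₁ w₂ hw => by
    obtain ⟨z₁, rfl⟩ := exists_lift r w₁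
    obtain ⟨z₂, rfl⟩ := exists_lift r w₂
    simp only [Category.assoc] at hw
    have e1 := congrArg (· ≫ (i ≫ q).ker.subschemeι) hw
    simp only [Category.assoc, hm] at e1
    obtain ⟨σ, hσ⟩ := GeomOrbit.main hquot (z₁ ≫ i) (z₂ ≫ i) (by simpa using e1)
    have : z₁ ≫ (ρZ σ).hom = z₂ := by
      rw [← cancel_mono i, Category.assoc, hρZ, ← Category.assoc, hσ]
    rw [← this, Category.assoc, hr.inv]
  refine ⟨Groth.Agent.UnivHomeo.Basic.isUnivHomeo_of m, ?_⟩
  haveI : QuasiCompact (i ≫ q) := inferInstance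
  have hk : (i ≫ q).toImage.ker = ⊥ := by
    refine Scheme.IdealSheafData.ext_of_iSup_eq_top
      (fun U : Y.affineOpens => (⟨(i ≫ q).imageι ⁻¹ᵁ U.1, U.2.preimage (i ≫ q).imageι⟩ : (i ≫ q).image.affineOpens))
      (by
        show ⨆ U : Y.affineOpens, (i ≫ q).imageι ⁻¹ᵁ U.1 = ⊤
        rw [← Scheme.Hom.preimage_iSup, iSup_affineOpens_eq_top]
        rfl) fun U => ?_
    rw [Scheme.Hom.ker_apply, Scheme.IdealSheafData.ideal_bot, Pi.bot_apply, ← RingHom.injective_iff_ker_eq_bot]
    exact (i ≫ q).toImage_app_injective U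
  constructor
  refine le_bot_iff.1 ((Scheme.Hom.le_ker_comp r m).trans ?_)
  rw [e, hk]

end Groth.Agent.SGA1Q.Comparison

end
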