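import Groth.Agent.SGA1Q.OfCover
import Mathlib.AlgebraicGeometry.ProjectiveSpectrum.Basic
import Mathlib.RingTheory.GradedAlgebra.RingHom

/-!
The quotient of a projective spectrum by a finite group acting on the graded ring.
-/

universe u

open CategoryTheory AlgebraicGeometry Limits HomogeneousLocalization Polynomial

set_option linter.style.haveILetI false
set_option linter.unusedSectionVars false
set_option backward.isDefEq.respectTransparency.types false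

noncomputable section

namespace Groth.Agent.SGA1Q.ProjQuot

variable {R A : Type u} [CommRing R] [CommRing A] [Algebra R A] (𝒜 : ℕ → Submodule R A) [GradedAlgebra 𝒜]

theorem exists_pos_notMem (x : Proj 𝒜) : ∃ (d : ℕ) (f : A), 0 < d ∧ f ∈ 𝒜 d ∧ f ∉ x.asHomogeneousIdeal := by
  by_contra! h
  exact x.not_irrelevant_le ((HomogeneousIdeal.irrelevant_le 𝒜).2 fun i hi a ha => h i a hi ha)

/-- a ring map compatible with the gradings gives the expected map of fractions -/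
theorem compat {S B : Type u} [CommRing S] [CommRing B] [Algebra S B] (ℬ : ℕ → Submodule S B) [GradedAlgebra ℬ]
    (g : A →+* B) {d : ℕ} {f : A} (hf : f ∈ 𝒜 d) (hgf : g f ∈ ℬ d) (hg : ∀ i a, a ∈ 𝒜 i → g a ∈ ℬ i)
    (θ : Away 𝒜 f →+* Away ℬ (g f))
    (hθ : ∀ n a ha, θ (Away.mk 𝒜 hf n a ha) = Away.mk ℬ hgf n (g a) (hg _ a ha)) :
    (algebraMap (Away ℬ (g f)) (Localization.Away (g f))).comp θ =
      (Localization.awayMap g f).comp (algebraMap (Away 𝒜 f) (Localization.Away f)) := by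
  refine RingHom.ext fun z => ?_
  obtain ⟨n, a, ha, rfl⟩ := Away.mk_surjective 𝒜 hf z
  simp only [RingHom.comp_apply, hθ, HomogeneousLocalization.algebraMap_apply, Away.val_mk, Localization.awayMap,
    IsLocalization.Away.map, Localization.mk_eq_mk', IsLocalization.map_mk']
  simp

theorem exists_map {S B : Type u} [CommRing S] [CommRing B] [Algebra S B] (ℬ : ℕ → Submodule S B) [GradedAlgebra ℬ]
    (g : A →+* B) {d : ℕ} {f : A} (hf : f ∈ 𝒜 d) (f' : B) (e : g f = f') (hf' : f' ∈ ℬ d)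
    (hg : ∀ i a, a ∈ 𝒜 i → g a ∈ ℬ i) :
    ∃ θ : Away 𝒜 f →+* Away ℬ f', ∀ n a ha, θ (Away.mk 𝒜 hf n a ha) = Away.mk ℬ hf' n (g a) (hg _ a ha) := by
  subst e
  let g' : 𝒜 →+*ᵍ ℬ := { g with map_mem := fun {i x} h => hg i x h }
  exact ⟨Away.map g' f, fun n a ha => Away.map_mk g' f hf n a ha⟩

theorem spec_appTop_injective {A₁ A₂ : CommRingCat.{u}} (φ : A₁ ⟶ A₂) (h : Function.Injective φ.hom) :
    Function.Injective (Spec.map φ).appTop.hom := by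
  have e := Scheme.ΓSpecIso_naturality φ
  intro a b hab
  apply (Scheme.ΓSpecIso A₁).commRingCatIsoToRingEquiv.injective
  apply h
  have ea := congrArg (fun m => m.hom a) e
  have eb := congrArg (fun m => m.hom b) e
  simp only [CommRingCat.hom_comp, RingHom.comp_apply] at ea eb
  rw [hab] at ea
  exact ea.symm.trans eb

theorem spec_appTop_range {A₁ A₂ : CommRingCat.{u}} (φ : A₁ ⟶ A₂) (a : Γ(Spec A₂, ⊤))
    (h : (Scheme.ΓSpecIso A₂).hom.hom a ∈ Set.range φ.hom) : a ∈ Set.range (Spec.map φ).appTop.hom := by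
  obtain ⟨b, hb⟩ := h
  refine ⟨(Scheme.ΓSpecIso A₁).inv.hom b, (Scheme.ΓSpecIso A₂).commRingCatIsoToRingEquiv.injective ?_⟩
  refine Eq.trans ?_ hb
  have e := congrArg (fun m => ((Scheme.ΓSpecIso A₁).inv ≫ m).hom b) (Scheme.ΓSpecIso_naturality φ)
  simp only [Iso.inv_hom_id_assoc] at e
  exact e

variable {G : Type u} [Group G] [Finite G] [MulSemiringAction G A]
  (hGdeg : ∀ (σ : G) (i : ℕ) (a : A), a ∈ 𝒜 i → σ • a ∈ 𝒜 i)

include hGdeg in
theorem exists_invariant_notMem (x : Proj 𝒜) :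
    ∃ (d : ℕ) (b : A), 0 < d ∧ b ∈ 𝒜 d ∧ (∀ σ : G, σ • b = b) ∧ b ∉ x.asHomogeneousIdeal := by
  classical
  cases nonempty_fintype G
  obtain ⟨d, f, hd, hf, hfx⟩ := exists_pos_notMem 𝒜 x
  by_contra! hne
  have key : ∀ s : Finset G, ∀ k ≤ s.card, (∏ σ ∈ s, (Polynomial.X - C (σ • f))).coeff k ∈ 𝒜 ((s.card - k) * d) := by
    intro s
    induction s using Finset.induction_on with
    | empty =>
      intro k hk
      simp only [Finset.card_empty, Nat.le_zero] at hk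
      subst hk
      simpa using SetLike.one_mem_graded 𝒜
    | insert a s ha ih =>
      intro k hk
      rw [Finset.card_insert_of_notMem ha] at hk ⊢
      rw [Finset.prod_insert ha, sub_mul, coeff_sub, coeff_C_mul]
      refine sub_mem ?_ ?_
      · rcases k with - | k
        · simp
        · rw [coeff_X_mul, Nat.add_sub_add_right]
          exact ih k (by omega)
      · rcases Nat.lt_or_ge s.card k with h | h
        · rw [coeff_eq_zero_of_natDegree_lt]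
          · simp
          · refine lt_of_le_of_lt ((natDegree_prod_le _ _).trans
              (Finset.sum_le_card_nsmul _ _ 1 fun σ _ => natDegree_X_sub_C_le _)) ?_
            simpa using h
        · rw [show s.card + 1 - k = 1 + (s.card - k) by omega, add_mul, one_mul]
          exact SetLike.mul_mem_graded (hGdeg a d f hf) (ih k h)
  let P := ∏ σ : G, (Polynomial.X - C (σ • f))
  have hinv : ∀ (τ : G) k, τ • P.coeff k = P.coeff k := by
    intro τ k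
    have h : P.map (MulSemiringAction.toRingHom G A τ) = P := by
      simp only [P, Polynomial.map_prod, Polynomial.map_sub, map_X, map_C, MulSemiringAction.toRingHom_apply, smul_smul]
      exact Fintype.prod_equiv (Equiv.mulLeft τ) _ _ (fun σ => by simp)
    conv_rhs => rw [← h]
    rw [coeff_map]; rfl
  have hroot : P.eval f = 0 := by
    rw [eval_prod]
    exact Finset.prod_eq_zero (Finset.mem_univ 1) (by simp)
  have hmon : P.Monic := monic_prod_of_monic _ _ fun σ _ => monic_X_sub_C _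
  have hdeg : P.natDegree ≤ Fintype.card G :=
    (natDegree_prod_le _ _).trans ((Finset.sum_le_card_nsmul _ _ 1 fun σ _ => natDegree_X_sub_C_le _).trans (by simp))
  have hmem : f ^ P.natDegree ∈ x.asHomogeneousIdeal.toIdeal := by
    rw [eval_eq_sum_range, Finset.sum_range_succ, hmon.coeff_natDegree, one_mul, add_eq_zero_iff_eq_neg'] at hroot
    rw [hroot]
    refine neg_mem (sum_mem fun k hk => Ideal.mul_mem_right _ _ ?_)
    rw [Finset.mem_range] at hk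
    exact hne _ _ (Nat.mul_pos (by omega : 0 < Fintype.card G - k) hd)
      (by simpa [Finset.card_univ] using key Finset.univ k (by rw [Finset.card_univ]; omega)) (hinv · k)
  exact hfx (x.isPrime.mem_of_pow_mem _ hmem)

variable {C : Type u} [CommRing C] [Algebra R C] (𝒞 : ℕ → Submodule R C) [GradedAlgebra 𝒞]
  (ι : C →ₐ[R] A) (hι : Function.Injective ι)
  (hιdeg : ∀ (i : ℕ) (a : A), a ∈ (𝒞 i).map ι.toLinearMap ↔ (a ∈ 𝒜 i ∧ ∀ σ : G, σ • a = a))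
  (ρ : G →* Aut (Proj 𝒜))
  (hρ : ∀ (σ : G) (n : ℕ) (f : A) (hn : 0 < n) (hf : f ∈ 𝒜 n)
    (θ : CommRingCat.of (HomogeneousLocalization.Away 𝒜 f) ⟶ CommRingCat.of (HomogeneousLocalization.Away 𝒜 (σ • f))),
    (algebraMap (HomogeneousLocalization.Away 𝒜 (σ • f)) (Localization.Away (σ • f))).comp θ.hom =
    (Localization.awayMap (MulSemiringAction.toRingHom G A σ) f).comp
    (algebraMap (HomogeneousLocalization.Away 𝒜 f) (Localization.Away f)) →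
    Proj.awayι 𝒜 (σ • f) (hGdeg σ n f hf) hn ≫ (ρ σ).inv = Spec.map θ ≫ Proj.awayι 𝒜 f hf hn)
  (π : Proj 𝒜 ⟶ Proj 𝒞)
  (hπ : ∀ (n : ℕ) (c : C) (hn : 0 < n) (hc : c ∈ 𝒞 n)
    (θ : CommRingCat.of (HomogeneousLocalization.Away 𝒞 c) ⟶ CommRingCat.of (HomogeneousLocalization.Away 𝒜 (ι c))),
    (algebraMap (HomogeneousLocalization.Away 𝒜 (ι c)) (Localization.Away (ι c))).comp θ.hom =
    (Localization.awayMap ι.toRingHom c).comp
    (algebraMap (HomogeneousLocalization.Away 𝒞 c) (Localization.Away c)) →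
    Proj.awayι 𝒜 (ι c) ((hιdeg n (ι c)).mp (Submodule.mem_map_of_mem hc)).1 hn ≫ π =
    Spec.map θ ≫ Proj.awayι 𝒞 c hc hn)

include hρ in
theorem act_chart (σ : G) {d : ℕ} {f : A} (hd : 0 < d) (hf : f ∈ 𝒜 d) (f' : A) (e : σ • f = f') (hf' : f' ∈ 𝒜 d)
    (θ : Away 𝒜 f →+* Away 𝒜 f')
    (hθ : ∀ n a ha, θ (Away.mk 𝒜 hf n a ha) = Away.mk 𝒜 hf' n (σ • a) (hGdeg σ _ a ha)) :
    Proj.awayι 𝒜 f' hf' hd ≫ (ρ σ).inv = Spec.map (CommRingCat.ofHom θ) ≫ Proj.awayι 𝒜 f hf hd := by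
  subst e
  exact hρ σ d f hd hf (CommRingCat.ofHom θ)
    (compat 𝒜 𝒜 (MulSemiringAction.toRingHom G A σ) hf hf' (hGdeg σ) θ hθ)

include hιdeg in
theorem mem_of (i : ℕ) (c : C) (hc : c ∈ 𝒞 i) : ι c ∈ 𝒜 i := ((hιdeg i (ι c)).mp (Submodule.mem_map_of_mem hc)).1

include hιdeg in
theorem fixed_of (i : ℕ) (c : C) (hc : c ∈ 𝒞 i) (σ : G) : σ • ι c = ι c :=
  ((hιdeg i (ι c)).mp (Submodule.mem_map_of_mem hc)).2 σ

include hGdeg hι hρ hπ in
theorem main : SGA1.IsQuot ρ π := by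
  classical
  cases nonempty_fintype G
  have cov : ∀ x : Proj 𝒜, ∃ (d : ℕ) (c : C), 0 < d ∧ c ∈ 𝒞 d ∧ ι c ∉ x.asHomogeneousIdeal := fun x => by
    obtain ⟨d, b, hd, hb, hfix, hbx⟩ := exists_invariant_notMem 𝒜 hGdeg x
    obtain ⟨c, hc, rfl⟩ := (hιdeg d b).2 ⟨hb, hfix⟩
    exact ⟨d, c, hd, hc, hbx⟩
  have hθι : ∀ (d : ℕ) (c : C) (hd : 0 < d) (hc : c ∈ 𝒞 d), ∃ θ : Away 𝒞 c →+* Away 𝒜 (ι c),
      (∀ n a ha, θ (Away.mk 𝒞 hc n a ha) = Away.mk 𝒜 (mem_of 𝒜 𝒞 ι hιdeg d c hc) n (ι a) (mem_of 𝒜 𝒞 ι hιdeg _ a ha)) ∧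
      Proj.awayι 𝒜 (ι c) (mem_of 𝒜 𝒞 ι hιdeg d c hc) hd ≫ π = Spec.map (CommRingCat.ofHom θ) ≫ Proj.awayι 𝒞 c hc hd := by
    intro d c hd hc
    obtain ⟨θ, hθ⟩ := exists_map 𝒞 𝒜 ι.toRingHom hc (ι c) rfl (mem_of 𝒜 𝒞 ι hιdeg d c hc) (mem_of 𝒜 𝒞 ι hιdeg)
    exact ⟨θ, hθ, hπ d c hd hc (CommRingCat.ofHom θ)
      (compat 𝒞 𝒜 ι.toRingHom hc (mem_of 𝒜 𝒞 ι hιdeg d c hc) (mem_of 𝒜 𝒞 ι hιdeg) θ hθ)⟩
  have hσ : ∀ (σ : G) (d : ℕ) (c : C) (hd : 0 < d) (hc : c ∈ 𝒞 d), ∃ θ : Away 𝒜 (ι c) →+* Away 𝒜 (ι c),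
      (∀ n a ha, θ (Away.mk 𝒜 (mem_of 𝒜 𝒞 ι hιdeg d c hc) n a ha) =
        Away.mk 𝒜 (mem_of 𝒜 𝒞 ι hιdeg d c hc) n (σ • a) (hGdeg σ _ a ha)) ∧
      Spec.map (CommRingCat.ofHom θ) ≫ Proj.awayι 𝒜 (ι c) (mem_of 𝒜 𝒞 ι hιdeg d c hc) hd =
        Proj.awayι 𝒜 (ι c) (mem_of 𝒜 𝒞 ι hιdeg d c hc) hd ≫ (ρ σ).inv := by
    intro σ d c hd hc
    obtain ⟨θ, hθ⟩ := exists_map 𝒜 𝒜 (MulSemiringAction.toRingHom G A σ) (mem_of 𝒜 𝒞 ι hιdeg d c hc) (ι c)
      (fixed_of 𝒜 𝒞 ι hιdeg d c hc σ) (mem_of 𝒜 𝒞 ι hιdeg d c hc) (hGdeg σ)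
    exact ⟨θ, hθ, (act_chart 𝒜 hGdeg ρ hρ σ hd (mem_of 𝒜 𝒞 ι hιdeg d c hc) (ι c)
      (fixed_of 𝒜 𝒞 ι hιdeg d c hc σ) (mem_of 𝒜 𝒞 ι hιdeg d c hc) θ hθ).symm⟩
  have hinv : ∀ g : G, (ρ g).hom ≫ π = π := by
    have : ∀ σ : G, (ρ σ).inv ≫ π = π := fun σ => by
      choose d c hd hc hx using cov
      refine ((Proj 𝒜).openCoverOfIsOpenCover (fun x => Proj.basicOpen 𝒜 (ι (c x)))
        (TopologicalSpace.IsOpenCover.mk (eq_top_iff.2 fun x _ => TopologicalSpace.Opens.mem_iSup.2 ⟨x, hx x⟩))).hom_ext _ _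
        fun (x : Proj 𝒜) => ?_
      show (Proj.basicOpen 𝒜 (ι (c x))).ι ≫ _ = (Proj.basicOpen 𝒜 (ι (c x))).ι ≫ _
      rw [← cancel_epi (Proj.basicOpenIsoSpec 𝒜 (ι (c x)) (mem_of 𝒜 𝒞 ι hιdeg _ _ (hc x)) (hd x)).inv,
        Proj.basicOpenIsoSpec_inv_ι_assoc, Proj.basicOpenIsoSpec_inv_ι_assoc]
      obtain ⟨θ, hθ, e⟩ := hσ σ _ _ (hd x) (hc x)
      obtain ⟨θ', hθ', e'⟩ := hθι _ _ (hd x) (hc x)
      rw [← reassoc_of% e, e', ← Spec.map_comp_assoc]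
      congr 2
      refine CommRingCat.hom_ext (RingHom.ext fun z => ?_)
      obtain ⟨n, a, ha, rfl⟩ := Away.mk_surjective 𝒞 (hc x) z
      show θ (θ' _) = θ' _
      rw [hθ', hθ]
      apply val_injective
      simp only [Away.val_mk, fixed_of 𝒜 𝒞 ι hιdeg _ a ha σ]
    intro g
    have h := this g⁻¹
    rwa [map_inv] at h
  refine OfCover.main hinv fun y => ?_
  obtain ⟨d, c, hd, hc, hcy⟩ := exists_pos_notMem 𝒞 y
  obtain ⟨θ, hθ, eθ⟩ := hθι d c hd hc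
  let j := Proj.awayι 𝒜 (ι c) (mem_of 𝒜 𝒞 ι hιdeg d c hc) hd
  let k := Proj.awayι 𝒞 c hc hd
  have hk : Set.range k = (Proj.basicOpen 𝒞 c : Set (Proj 𝒞)) := by
    rw [← Proj.opensRange_awayι 𝒞 c hc hd]; rfl
  have hj : Set.range j = (Proj.basicOpen 𝒜 (ι c) : Set (Proj 𝒜)) := by
    rw [← Proj.opensRange_awayι 𝒜 (ι c) (mem_of 𝒜 𝒞 ι hιdeg d c hc) hd]; rfl
  refine ⟨⟨Spec (CommRingCat.of (Away 𝒞 c)), Spec (CommRingCat.of (Away 𝒜 (ι c))), k, j,
    Spec.map (CommRingCat.ofHom θ), eθ.symm, ?_, spec_appTop_injective _ ?_, fun a ha => spec_appTop_range _ a ?_⟩,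
    hk.ge hcy⟩
  · refine Set.Subset.antisymm ?_ fun x hx => ?_
    · rintro _ ⟨u, rfl⟩
      exact ⟨Spec.map (CommRingCat.ofHom θ) u, (congrArg (fun f => f u) eθ).symm⟩
    · obtain ⟨d', c', hd', hc', hcx⟩ := cov x
      obtain ⟨θ', hθ', eθ'⟩ := hθι d' c' hd' hc'
      obtain ⟨u, rfl⟩ : x ∈ (Proj.awayι 𝒜 (ι c') (mem_of 𝒜 𝒞 ι hιdeg d' c' hc') hd').opensRange := by
        rw [Proj.opensRange_awayι]; exact hcx
      rw [hj]
      show u ∈ Proj.awayι 𝒜 (ι c') (mem_of 𝒜 𝒞 ι hιdeg d' c' hc') hd' ⁻¹ᵁ Proj.basicOpen 𝒜 (ι c)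
      rw [Proj.awayι_preimage_basicOpen 𝒜 _ hd' (mem_of 𝒜 𝒞 ι hιdeg d c hc) hd]
      have h1 : Proj.awayι 𝒞 c' hc' hd' (Spec.map (CommRingCat.ofHom θ') u) ∈ Proj.basicOpen 𝒞 c := by
        rw [← Scheme.Hom.comp_apply, ← eθ', Scheme.Hom.comp_apply]
        exact hk.le hx
      change Spec.map (CommRingCat.ofHom θ') u ∈ Proj.awayι 𝒞 c' hc' hd' ⁻¹ᵁ Proj.basicOpen 𝒞 c at h1
      rw [Proj.awayι_preimage_basicOpen 𝒞 hc' hd' hc hd] at h1
      have h2 : θ' (Away.isLocalizationElem hc' hc) = Away.isLocalizationElem (mem_of 𝒜 𝒞 ι hιdeg d' c' hc')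
          (mem_of 𝒜 𝒞 ι hιdeg d c hc) := by
        rw [hθ']
        apply val_injective
        simp [Away.val_mk]
      rw [← h2]
      exact h1
  · rw [injective_iff_map_eq_zero]
    intro z hz
    obtain ⟨n, a, ha, rfl⟩ := Away.mk_surjective 𝒞 hc z
    change θ _ = 0 at hz
    rw [hθ] at hz
    have h := congrArg HomogeneousLocalization.val hz
    rw [Away.val_mk, HomogeneousLocalization.val_zero, Localization.mk_eq_mk', IsLocalization.mk'_eq_zero_iff] at h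
    obtain ⟨⟨_, m, rfl⟩, hm⟩ := h
    apply val_injective
    rw [Away.val_mk, HomogeneousLocalization.val_zero, Localization.mk_eq_mk', IsLocalization.mk'_eq_zero_iff]
    exact ⟨⟨c ^ m, m, rfl⟩, hι (by simpa using hm)⟩
  · let b : Away 𝒜 (ι c) := (Scheme.ΓSpecIso (CommRingCat.of (Away 𝒜 (ι c)))).hom.hom a
    show b ∈ Set.range θ
    obtain ⟨n, a₀, ha₀, hb⟩ := Away.mk_surjective 𝒜 (mem_of 𝒜 𝒞 ι hιdeg d c hc) b
    have fix : ∀ σ : G, ∃ m : ℕ, ι c ^ m * (σ • a₀) = ι c ^ m * a₀ := by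
      intro σ
      obtain ⟨θσ, hθσ, eσ⟩ := hσ σ d c hd hc
      have h := congrArg (fun z => (Scheme.ΓSpecIso (CommRingCat.of (Away 𝒜 (ι c)))).hom.hom z)
        (ha σ⁻¹ (Spec.map (CommRingCat.ofHom θσ)) (by rw [map_inv]; exact eσ))
      have e := congrArg (fun m => m.hom a) (Scheme.ΓSpecIso_naturality (CommRingCat.ofHom θσ))
      simp only [CommRingCat.hom_comp, RingHom.comp_apply] at e h
      have e2 : θσ b = b := e.symm.trans h
      rw [← hb, hθσ] at e2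
      have h3 := congrArg HomogeneousLocalization.val e2
      rw [Away.val_mk, Away.val_mk, Localization.mk_eq_mk_iff, Localization.r_iff_exists] at h3
      obtain ⟨⟨_, m, rfl⟩, hm⟩ := h3
      refine ⟨m + n, ?_⟩
      simp only [pow_add, mul_assoc] at hm ⊢
      exact hm
    choose m hm using fix
    let M := ∑ σ : G, m σ
    have hinvM : ∀ σ : G, σ • (ι c ^ M * a₀) = ι c ^ M * a₀ := fun σ => by
      rw [smul_mul', smul_pow', fixed_of 𝒜 𝒞 ι hιdeg d c hc σ]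
      obtain ⟨r, hr⟩ := Nat.exists_eq_add_of_le (Finset.single_le_sum (f := m) (fun i _ => Nat.zero_le _) (Finset.mem_univ σ))
      rw [show M = r + m σ by simp only [M]; omega, pow_add, mul_assoc, mul_assoc, hm]
    obtain ⟨c', hc', e'⟩ := (hιdeg ((M + n) • d) (ι c ^ M * a₀)).2 ⟨by
      rw [add_smul]
      exact SetLike.mul_mem_graded (SetLike.pow_mem_graded M (mem_of 𝒜 𝒞 ι hιdeg d c hc)) ha₀, hinvM⟩
    refine ⟨Away.mk 𝒞 hc (M + n) c' hc', ?_⟩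
    rw [hθ, ← hb]
    apply val_injective
    rw [Away.val_mk, Away.val_mk, Localization.mk_eq_mk_iff, Localization.r_iff_exists]
    refine ⟨1, ?_⟩
    change ι c' = _ at e'
    simp only [OneMemClass.coe_one, one_mul, e']
    ring

end Groth.Agent.SGA1Q.ProjQuot

end
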