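import Groth.Prelude.Def_SGA1
import Groth.Agent.Coeq6.Pred
import Mathlib.RingTheory.Invariant.Basic
import Mathlib.RingTheory.Ideal.GoingUp
import Mathlib.AlgebraicGeometry.Morphisms.Integral
import Mathlib.AlgebraicGeometry.Limits

/-!
Quotients by finite groups: integrality, orbits, coequalizer property.
-/

universe u

open CategoryTheory AlgebraicGeometry Limits
open scoped Pointwise

set_option linter.style.haveILetI false
set_option backward.isDefEq.respectTransparency.types false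

noncomputable section

namespace Groth.Agent.SGA1Q.Base

variable {X Y : Scheme.{u}} {G : Type u} [Group G] {ρ : G →* Aut X} {p : X ⟶ Y}
  (hp : SGA1.IsQuot ρ p)

/-- the action on functions over an open of the target -/
def σ (V : Y.Opens) (g : G) : Γ(X, p ⁻¹ᵁ V) →+* Γ(X, p ⁻¹ᵁ V) :=
  ((ρ g).hom.appLE (p ⁻¹ᵁ V) (p ⁻¹ᵁ V) (SGA1.preimage_le_of_inv ρ p hp.inv g V)).hom

theorem σ_one (V : Y.Opens) (a : Γ(X, p ⁻¹ᵁ V)) : σ hp V 1 a = a := by
  have key : ∀ (f : X ⟶ X) (e : p ⁻¹ᵁ V ≤ f ⁻¹ᵁ (p ⁻¹ᵁ V)), f = 𝟙 X → (f.appLE (p ⁻¹ᵁ V) (p ⁻¹ᵁ V) e).hom a = a := by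
    rintro f e rfl
    show (X.presheaf.map (𝟙 _)).hom ((𝟙 Γ(X, p ⁻¹ᵁ V) : Γ(X, p ⁻¹ᵁ V) ⟶ _).hom a) = a
    simp
  exact key _ _ (by rw [map_one]; rfl)

theorem σ_mul (V : Y.Opens) (g h : G) (a : Γ(X, p ⁻¹ᵁ V)) : σ hp V (g * h) a = σ hp V h (σ hp V g a) := by
  have key : ∀ (f : X ⟶ X) (e : p ⁻¹ᵁ V ≤ f ⁻¹ᵁ (p ⁻¹ᵁ V)), f = (ρ h).hom ≫ (ρ g).hom →
      (f.appLE (p ⁻¹ᵁ V) (p ⁻¹ᵁ V) e).hom a = σ hp V h (σ hp V g a) := by
    rintro f e rfl
    exact (congrArg (fun m => m.hom a) (Scheme.Hom.appLE_comp_appLE (ρ h).hom (ρ g).hom (p ⁻¹ᵁ V) (p ⁻¹ᵁ V) (p ⁻¹ᵁ V)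
      (SGA1.preimage_le_of_inv ρ p hp.inv g V) (SGA1.preimage_le_of_inv ρ p hp.inv h V))).symm
  exact key _ _ (by rw [map_mul]; rfl)

/-- the action on functions -/
@[reducible] def act (V : Y.Opens) : MulSemiringAction G Γ(X, p ⁻¹ᵁ V) where
  smul g a := σ hp V g⁻¹ a
  one_smul a := by show σ hp V 1⁻¹ a = a; rw [inv_one]; exact σ_one hp V a
  mul_smul g h a := by
    show σ hp V (g * h)⁻¹ a = σ hp V g⁻¹ (σ hp V h⁻¹ a)
    rw [mul_inv_rev, σ_mul]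
  smul_zero g := map_zero (σ hp V g⁻¹)
  smul_add g := map_add (σ hp V g⁻¹)
  smul_one g := map_one (σ hp V g⁻¹)
  smul_mul g := map_mul (σ hp V g⁻¹)

theorem σ_app (V : Y.Opens) (g : G) (b : Γ(Y, V)) : σ hp V g ((p.app V).hom b) = (p.app V).hom b :=
  (hp.range_iff V _).1 ⟨b, rfl⟩ g

theorem setup (V : Y.Opens) :
    letI := act hp V
    letI := (p.app V).hom.toAlgebra
    Algebra.IsInvariant Γ(Y, V) Γ(X, p ⁻¹ᵁ V) G ∧ SMulCommClass G Γ(Y, V) Γ(X, p ⁻¹ᵁ V) := by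
  letI := act hp V
  letI := (p.app V).hom.toAlgebra
  refine ⟨⟨fun a ha => ?_⟩, ⟨fun g b a => ?_⟩⟩
  · obtain ⟨b, hb⟩ := (hp.range_iff V a).2 fun g => by
      have h2 : σ hp V g⁻¹⁻¹ a = a := ha g⁻¹
      rw [inv_inv] at h2
      exact h2
    exact ⟨b, hb⟩
  · show σ hp V g⁻¹ ((p.app V).hom b * a) = (p.app V).hom b * σ hp V g⁻¹ a
    rw [map_mul, σ_app]

include hp in
theorem isIntegralHom [Finite G] : IsIntegralHom p := by
  haveI := hp.affine
  refine ⟨fun V hV => ?_⟩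
  letI := act hp V
  letI := (p.app V).hom.toAlgebra
  haveI := (setup hp V).1
  exact (Algebra.IsInvariant.isIntegral Γ(Y, V) Γ(X, p ⁻¹ᵁ V) G).isIntegral

theorem mem_prime {U : X.Opens} (hU : IsAffineOpen U) (x : U) (a : Γ(X, U)) :
    a ∈ (hU.primeIdealOf x).asIdeal ↔ x.1 ∉ X.basicOpen a := by
  have h : x.1 ∈ X.basicOpen a ↔ hU.primeIdealOf x ∈ hU.fromSpec ⁻¹ᵁ X.basicOpen a := by
    show _ ↔ hU.fromSpec (hU.primeIdealOf x) ∈ X.basicOpen a
    rw [hU.fromSpec_primeIdealOf]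
  rw [h, hU.fromSpec_preimage_basicOpen]
  exact not_not.symm

variable [Finite G]

include hp in
theorem exists_orbit (x x' : X) (h : p x = p x') : ∃ g : G, (ρ g).hom x = x' := by
  haveI := hp.affine
  obtain ⟨_, ⟨V₀, hV, rfl⟩, hxV, -⟩ := Y.isBasis_affineOpens.exists_subset_of_mem_open (Set.mem_univ (p x)) isOpen_univ
  let V : Y.Opens := V₀
  have hXV : IsAffineOpen (p ⁻¹ᵁ V) := IsAffineOpen.preimage hV p
  have hx' : x' ∈ p ⁻¹ᵁ V := by show p x' ∈ V; rw [← h]; exact hxV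
  letI := act hp V
  letI := (p.app V).hom.toAlgebra
  haveI := (setup hp V).1
  haveI := (setup hp V).2
  obtain ⟨g, hg⟩ := Algebra.IsInvariant.exists_smul_of_under_eq Γ(Y, V) Γ(X, p ⁻¹ᵁ V) G
    (hXV.primeIdealOf ⟨x, hxV⟩).asIdeal (hXV.primeIdealOf ⟨x', hx'⟩).asIdeal (by
      ext b
      show (p.app V).hom b ∈ (hXV.primeIdealOf ⟨x, hxV⟩).asIdeal ↔
        (p.app V).hom b ∈ (hXV.primeIdealOf ⟨x', hx'⟩).asIdeal
      rw [mem_prime, mem_prime]
      show x ∉ X.basicOpen _ ↔ x' ∉ X.basicOpen _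
      rw [← Scheme.preimage_basicOpen]
      show p x ∉ Y.basicOpen b ↔ p x' ∉ Y.basicOpen b
      rw [h])
  have hgx : (ρ g).hom x ∈ p ⁻¹ᵁ V := SGA1.preimage_le_of_inv ρ p hp.inv g V hxV
  refine ⟨g, ?_⟩
  have : hXV.primeIdealOf ⟨(ρ g).hom x, hgx⟩ = hXV.primeIdealOf ⟨x', hx'⟩ := by
    refine PrimeSpectrum.ext (Ideal.ext fun a => ?_)
    rw [hg, Ideal.mem_pointwise_smul_iff_inv_smul_mem]
    show _ ↔ σ hp V g⁻¹⁻¹ a ∈ _
    rw [inv_inv, mem_prime, mem_prime]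
    show (ρ g).hom x ∉ X.basicOpen a ↔ x ∉ X.basicOpen _
    rw [σ, Scheme.basicOpen_appLE]
    exact not_congr ⟨fun h' => ⟨hxV, h'⟩, fun h' => h'.2⟩
  have := congrArg hXV.fromSpec this
  rwa [hXV.fromSpec_primeIdealOf, hXV.fromSpec_primeIdealOf] at this

include hp in
theorem surjective : Function.Surjective p := by
  intro y
  haveI := hp.affine
  obtain ⟨_, ⟨V₀, hV, rfl⟩, hyV, -⟩ := Y.isBasis_affineOpens.exists_subset_of_mem_open (Set.mem_univ y) isOpen_univ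
  let V : Y.Opens := V₀
  have hV' : IsAffineOpen V := hV
  have hXV : IsAffineOpen (p ⁻¹ᵁ V) := IsAffineOpen.preimage hV p
  letI := act hp V
  letI := (p.app V).hom.toAlgebra
  haveI := (setup hp V).1
  haveI := Algebra.IsInvariant.isIntegral Γ(Y, V) Γ(X, p ⁻¹ᵁ V) G
  obtain ⟨P, hP⟩ := RingHom.IsIntegral.comap_surjective ((isIntegralHom hp).isIntegral_app V hV) (hp.injective V)
    (hV'.primeIdealOf ⟨y, hyV⟩)
  have hxV : hXV.fromSpec P ∈ p ⁻¹ᵁ V := by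
    have : hXV.fromSpec P ∈ Set.range hXV.fromSpec := ⟨P, rfl⟩
    rwa [hXV.range_fromSpec] at this
  have hPx : hXV.primeIdealOf ⟨_, hxV⟩ = P := hXV.fromSpec.isOpenEmbedding.injective (hXV.fromSpec_primeIdealOf _)
  refine ⟨hXV.fromSpec P, ?_⟩
  have : hV'.primeIdealOf ⟨p (hXV.fromSpec P), hxV⟩ = hV'.primeIdealOf ⟨y, hyV⟩ := by
    rw [← hP]
    refine PrimeSpectrum.ext (Ideal.ext fun b => ?_)
    show _ ↔ (p.app V).hom b ∈ P.asIdeal
    refine Iff.trans ?_ (iff_of_eq (congrArg (fun Q : PrimeSpectrum Γ(X, p ⁻¹ᵁ V) => (p.app V).hom b ∈ Q.asIdeal) hPx))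
    rw [mem_prime, mem_prime, ← Scheme.preimage_basicOpen]
    rfl
  have := congrArg hV'.fromSpec this
  rwa [hV'.fromSpec_primeIdealOf, hV'.fromSpec_primeIdealOf] at this

include hp in
theorem isQuotientMap : Topology.IsQuotientMap p :=
  haveI := isIntegralHom hp
  p.isClosedMap.isQuotientMap p.continuous (surjective hp)

omit [Finite G] in
theorem inv_apply (g : G) (x : X) (hp : SGA1.IsQuot ρ p) : p ((ρ g).hom x) = p x :=
  congrArg (fun f => f x) (hp.inv g)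

include hp in
theorem isOpenMap : IsOpenMap p := by
  intro O hO
  rw [← (isQuotientMap hp).isOpen_preimage]
  have : p ⁻¹' (p '' O) = ⋃ g : G, (ρ g).hom ⁻¹' O := by
    ext x
    simp only [Set.mem_preimage, Set.mem_image, Set.mem_iUnion]
    constructor
    · rintro ⟨z, hz, hzx⟩
      obtain ⟨g, hg⟩ := exists_orbit hp x z hzx.symm
      exact ⟨g, hg.symm ▸ hz⟩
    · rintro ⟨g, hg⟩
      exact ⟨_, hg, inv_apply g x hp⟩
  rw [this]
  exact isOpen_iUnion fun g => hO.preimage (ρ g).hom.continuous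

/-- the two projections of `G × X` -/
abbrev srcMap (_ρ : G →* Aut X) : (∐ fun _ : G => X) ⟶ X := Sigma.desc fun _ => 𝟙 X

variable (ρ) in
/-- the action -/
abbrev actMap : (∐ fun _ : G => X) ⟶ X := Sigma.desc fun g => (ρ g).hom

omit [Finite G] in
include hp in
theorem affUniv (E : Y.Opens) (hE : IsAffineOpen E) :
    Coeq6.Pred.AffUniv (srcMap ρ) (actMap ρ) p E := by
  intro Z _ g hg
  haveI := hp.affine
  let e := (p ⁻¹ᵁ E).topIso
  have hψ : (p ∣_ E).appTop = E.topIso.hom ≫ p.app E ≫ (p ⁻¹ᵁ E).topIso.inv := by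
    rw [← Scheme.Hom.resLE_eq_morphismRestrict]
    exact (Scheme.Hom.resLE_app_top _ _).trans (by rw [Scheme.Hom.app_eq_appLE])
  have key : ∀ z, ((g.appTop ≫ (p ⁻¹ᵁ E).topIso.hom).hom z) ∈ (p.app E).hom.range := by
    intro z
    refine (hp.range_iff E _).2 fun k => ?_
    have e₂ : p ⁻¹ᵁ E ≤ (ρ k).hom ⁻¹ᵁ (p ⁻¹ᵁ E) := SGA1.preimage_le_of_inv ρ p hp.inv k E
    have h := congrArg (fun f : (p ⁻¹ᵁ E).toScheme ⟶ Z => f.appTop ≫ (p ⁻¹ᵁ E).topIso.hom)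
      (hg _ ((p ⁻¹ᵁ E).ι ≫ Sigma.ι (fun _ : G => X) k) (𝟙 _) ((ρ k).hom.resLE (p ⁻¹ᵁ E) (p ⁻¹ᵁ E) e₂)
        (by simp) (by simp))
    simp only [Category.id_comp, Scheme.Hom.comp_appTop] at h
    rw [show ((ρ k).hom.resLE (p ⁻¹ᵁ E) (p ⁻¹ᵁ E) e₂).appTop = _ from Scheme.Hom.resLE_app_top _ _] at h
    simp only [Category.assoc, Iso.inv_hom_id, Category.comp_id] at h
    exact (congrArg (fun f => f.hom z) h).symm
  let eq := RingEquiv.ofBijective (p.app E).hom.rangeRestrict ⟨fun a b h => hp.injective E (congrArg Subtype.val h),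
    RingHom.rangeRestrict_surjective _⟩
  let φ : Γ(Z, ⊤) ⟶ Γ(E.toScheme, ⊤) :=
    CommRingCat.ofHom (eq.symm.toRingHom.comp ((g.appTop ≫ (p ⁻¹ᵁ E).topIso.hom).hom.codRestrict _ key)) ≫ E.topIso.inv
  have hφ : φ ≫ (p ∣_ E).appTop = g.appTop := by
    rw [hψ]
    simp only [φ, Category.assoc, Iso.inv_hom_id_assoc]
    rw [← Category.assoc, Iso.comp_inv_eq]
    ext z
    exact congrArg Subtype.val (eq.apply_symm_apply ⟨_, key z⟩)
  have hinj : Function.Injective (p ∣_ E).appTop.hom := by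
    rw [hψ]
    simp only [CommRingCat.hom_comp, RingHom.coe_comp]
    exact ((p ⁻¹ᵁ E).topIso.commRingCatIsoToRingEquiv.symm.injective).comp
      ((hp.injective E).comp E.topIso.commRingCatIsoToRingEquiv.injective)
  refine ⟨E.toScheme.toSpecΓ ≫ Spec.map φ ≫ Z.isoSpec.inv, ?_, fun v hv => ?_⟩
  · show p ∣_ E ≫ _ = g
    rw [← cancel_mono Z.isoSpec.hom]
    simp only [Category.assoc, Iso.inv_hom_id, Category.comp_id]
    rw [Scheme.toSpecΓ_naturality_assoc, ← Spec.map_comp, hφ]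
    exact (Scheme.toSpecΓ_naturality g).symm
  · rw [← cancel_mono Z.isoSpec.hom]
    simp only [Category.assoc, Iso.inv_hom_id, Category.comp_id]
    refine (Scheme.toSpecΓ_naturality v).trans ?_
    have h1 : v.appTop ≫ (p ∣_ E).appTop = φ ≫ (p ∣_ E).appTop := by
      rw [hφ, ← Scheme.Hom.comp_appTop]; exact congrArg Scheme.Hom.appTop hv
    have : v.appTop = φ := by
      ext z
      exact hinj (congrArg (fun f => f.hom z) h1)
    rw [this]

include hp in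
theorem isQuot : Coeq6.Pred.IsQuot (srcMap ρ) (actMap ρ) p := by
  refine ⟨Sigma.hom_ext _ _ fun g => by simp [hp.inv g], surjective hp, isOpenMap hp, fun x y h => ?_, fun y V hy => ?_⟩
  · obtain ⟨g, hg⟩ := exists_orbit hp y x h.symm
    refine ⟨Sigma.ι (fun _ : G => X) g y, ?_, ?_⟩
    · rw [← Scheme.Hom.comp_apply, Sigma.ι_desc]; exact hg
    · rw [← Scheme.Hom.comp_apply, Sigma.ι_desc]; rfl
  · obtain ⟨_, ⟨E, hE, rfl⟩, hyE, hEV⟩ := Y.isBasis_affineOpens.exists_subset_of_mem_open hy V.2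
    exact ⟨E, hyE, hEV, affUniv hp E hE⟩

end Groth.Agent.SGA1Q.Base

end
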