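import Groth.Agent.SGA1Q.GeomOrbit
import Mathlib.AlgebraicGeometry.ResidueField
import Mathlib.FieldTheory.Normal.Closure
import Mathlib.FieldTheory.IsAlgClosed.AlgebraicClosure

/-!
Residue field extensions of a quotient by a finite group.
-/

universe u

open CategoryTheory AlgebraicGeometry Limits

set_option linter.style.haveILetI false
set_option backward.isDefEq.respectTransparency.types false

noncomputable section

namespace Groth.Agent.SGA1Q.Residue

variable {X Y : Scheme.{u}} {G : Type u} [Group G] [Finite G] {ρ : G →* Aut X} {p : X ⟶ Y}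

theorem exists_conj (hp : SGA1.IsQuot ρ p) (x : X) {K : Type u} [Field K]
    (ψ₁ ψ₂ : X.residueField x ⟶ CommRingCat.of K) (h : p.residueFieldMap x ≫ ψ₁ = p.residueFieldMap x ≫ ψ₂) :
    ∃ (g : G) (e : (ρ g).hom x = x),
      (X.residueFieldCongr e).inv ≫ (ρ g).hom.residueFieldMap x ≫ ψ₁ = ψ₂ := by
  obtain ⟨g, hg⟩ := GeomOrbit.main hp (Spec.map ψ₁ ≫ X.fromSpecResidueField x) (Spec.map ψ₂ ≫ X.fromSpecResidueField x) (by
    rw [Category.assoc, Category.assoc, ← Scheme.Hom.SpecMap_residueFieldMap_fromSpecResidueField, ← Spec.map_comp_assoc,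
      ← Spec.map_comp_assoc, h])
  rw [Category.assoc, ← Scheme.Hom.SpecMap_residueFieldMap_fromSpecResidueField, ← Spec.map_comp_assoc] at hg
  have hg' : (X.SpecToEquivOfField K).symm ⟨(ρ g).hom x, (ρ g).hom.residueFieldMap x ≫ ψ₁⟩ =
      (X.SpecToEquivOfField K).symm ⟨x, ψ₂⟩ := hg
  obtain ⟨e, he⟩ := Scheme.SpecToEquivOfField_eq_iff.1 ((X.SpecToEquivOfField K).symm.injective hg')
  refine ⟨g, e, ?_⟩
  change (ρ g).hom.residueFieldMap x ≫ ψ₁ = (X.residueFieldCongr e).hom ≫ ψ₂ at he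
  rw [he, Iso.inv_hom_id_assoc]

theorem isAlgebraic (hp : SGA1.IsQuot ρ p) (x : X) :
    letI := (p.residueFieldMap x).hom.toAlgebra
    Algebra.IsAlgebraic (Y.residueField (p x)) (X.residueField x) := by
  letI := (p.residueFieldMap x).hom.toAlgebra
  haveI := hp.affine
  obtain ⟨_, ⟨V', hV', rfl⟩, hmem, -⟩ := Y.isBasis_affineOpens.exists_subset_of_mem_open
    (Set.mem_univ (p x)) isOpen_univ
  let V : Y.Opens := V'
  have hV : IsAffineOpen V := hV'
  have hU : IsAffineOpen (p ⁻¹ᵁ V) := hV.preimage p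
  letI := SGA1Q.Base.act hp V
  letI := (p.app V).hom.toAlgebra
  haveI := (SGA1Q.Base.setup hp V).1
  have hb : ∀ b : Γ(X, p ⁻¹ᵁ V), IsIntegral (Y.residueField (p x)) ((X.evaluation (p ⁻¹ᵁ V) x hmem).hom b) := by
    intro b
    obtain ⟨P, hP, hPb⟩ := Algebra.IsInvariant.isIntegral Γ(Y, V) Γ(X, p ⁻¹ᵁ V) G |>.isIntegral b
    refine ⟨P.map (Y.evaluation V (p x) hmem).hom, hP.map _, ?_⟩
    rw [Polynomial.eval₂_map]
    have e : (algebraMap (Y.residueField (p x)) (X.residueField x)).comp (Y.evaluation V (p x) hmem).hom =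
        (X.evaluation (p ⁻¹ᵁ V) x hmem).hom.comp (p.app V).hom := by
      exact congrArg CommRingCat.Hom.hom (Scheme.evaluation_naturality p x hmem)
    rw [e, ← Polynomial.hom_eval₂]
    exact (congrArg _ hPb).trans (map_zero _)
  refine ⟨fun z => ?_⟩
  obtain ⟨s, rfl⟩ := X.residue_surjective x z
  letI := TopCat.Presheaf.algebra_section_stalk X.presheaf (⟨x, hmem⟩ : (p ⁻¹ᵁ V : X.Opens))
  haveI := hU.isLocalization_stalk (⟨x, hmem⟩ : (p ⁻¹ᵁ V : X.Opens))
  obtain ⟨⟨a, b⟩, hab⟩ := IsLocalization.surj (hU.primeIdealOf ⟨x, hmem⟩).asIdeal.primeCompl s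
  have h1 := congrArg (X.residue x).hom hab
  rw [map_mul] at h1
  change (X.residue x).hom s * (X.evaluation (p ⁻¹ᵁ V) x hmem).hom b.1 = (X.evaluation (p ⁻¹ᵁ V) x hmem).hom a at h1
  have hne : (X.evaluation (p ⁻¹ᵁ V) x hmem).hom b.1 ≠ 0 :=
    ((IsLocalization.map_units (X.presheaf.stalk x) b).map (X.residue x).hom).ne_zero
  rw [show (X.residue x).hom s = (X.evaluation (p ⁻¹ᵁ V) x hmem).hom a * ((X.evaluation (p ⁻¹ᵁ V) x hmem).hom b.1)⁻¹ by
    rw [← h1, mul_assoc, mul_inv_cancel₀ hne, mul_one]]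
  exact ((hb a).mul (hb b.1).inv).isAlgebraic

theorem normal (hp : SGA1.IsQuot ρ p) (x : X) :
    letI := (p.residueFieldMap x).hom.toAlgebra
    Normal (Y.residueField (p x)) (X.residueField x) := by
  letI := (p.residueFieldMap x).hom.toAlgebra
  haveI := isAlgebraic hp x
  let F := Y.residueField (p x)
  let Ω := AlgebraicClosure (X.residueField x)
  haveI : Algebra.IsAlgebraic F Ω := Algebra.IsAlgebraic.trans F (X.residueField x) Ω
  let ι := IsScalarTower.toAlgHom F (X.residueField x) Ω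
  haveI : IsAlgClosure F Ω := ⟨inferInstance, inferInstance⟩
  haveI : Normal F Ω := IsAlgClosure.normal F Ω
  suffices h : Normal F ι.fieldRange by
    let e : ι.fieldRange ≃ₐ[F] X.residueField x := (AlgEquiv.ofInjectiveField ι).symm
    exact Normal.of_algEquiv e
  refine IntermediateField.normal_iff_forall_map_le.2 fun σ => ?_
  rintro _ ⟨_, ⟨z, rfl⟩, rfl⟩
  obtain ⟨g, e, he⟩ := exists_conj hp x (K := Ω) (CommRingCat.ofHom ι.toRingHom)
    (CommRingCat.ofHom (σ.comp ι).toRingHom) (by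
      refine CommRingCat.hom_ext (RingHom.ext fun a => ?_)
      exact (ι.commutes a).trans ((σ.comp ι).commutes a).symm)
  exact ⟨((X.residueFieldCongr e).inv ≫ (ρ g).hom.residueFieldMap x).hom z, congrArg (fun m => m.hom z) he⟩

theorem main (hp : SGA1.IsQuot ρ p) (x : X) :
    (letI := (p.residueFieldMap x).hom.toAlgebra
     Normal (Y.residueField (p.base x)) (X.residueField x)) ∧
     ∀ τ : X.residueField x ≅ X.residueField x,
     p.residueFieldMap x ≫ τ.hom = p.residueFieldMap x →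
     ∃ (g : G) (e : (ρ g).hom.base x = x),
     τ.hom = (X.residueFieldCongr e).inv ≫ (ρ g).hom.residueFieldMap x := by
  refine ⟨normal hp x, fun τ hτ => ?_⟩
  let c : X.residueField x ⟶ CommRingCat.of (AlgebraicClosure (X.residueField x)) :=
    CommRingCat.ofHom (algebraMap (X.residueField x) _)
  obtain ⟨g, e, he⟩ := exists_conj hp x c (τ.hom ≫ c) (by rw [reassoc_of% hτ])
  refine ⟨g, e, ?_⟩
  refine CommRingCat.hom_ext (RingHom.ext fun z => (algebraMap (X.residueField x) (AlgebraicClosure (X.residueField x))).injective ?_)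
  exact (congrArg (fun m => m.hom z) he).symm

end Groth.Agent.SGA1Q.Residue

end
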