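import Groth.Agent.SGA1Q.OfPred
import Groth.Agent.Coeq6.Affine

/-!
The affine quotient by a finite group; restriction to invariant opens.
-/

universe u

open CategoryTheory AlgebraicGeometry Limits
open scoped Pointwise

set_option linter.style.haveILetI false
set_option backward.isDefEq.respectTransparency.types false

noncomputable section

namespace Groth.Agent.SGA1Q.AffineQ

variable {X M : Scheme.{u}} [IsAffine X] [IsAffine M] {G : Type u} [Group G] [Finite G] {ρ : G →* Aut X}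
  {p : X ⟶ M}

theorem main (hinv : ∀ g : G, (ρ g).hom ≫ p = p) (hinj : Function.Injective p.appTop.hom)
    (heq : ∀ a, (∀ g : G, (ρ g).hom.appTop.hom a = a) → a ∈ Set.range p.appTop.hom) :
    Coeq6.Pred.IsQuot (Base.srcMap ρ) (Base.actMap ρ) p ∧ SGA1.IsQuot ρ p := by
  letI act : MulSemiringAction G Γ(X, ⊤) :=
    { smul := fun g a => (ρ g⁻¹).hom.appTop.hom a
      one_smul := fun a => by show (ρ 1⁻¹).hom.appTop.hom a = a; rw [inv_one, map_one]; show (𝟙 X : X ⟶ X).appTop.hom a = a; simp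
      mul_smul := fun g h a => by
        show (ρ (g * h)⁻¹).hom.appTop.hom a = (ρ g⁻¹).hom.appTop.hom ((ρ h⁻¹).hom.appTop.hom a)
        rw [mul_inv_rev, map_mul, show (ρ h⁻¹ * ρ g⁻¹).hom = (ρ g⁻¹).hom ≫ (ρ h⁻¹).hom from rfl, Scheme.Hom.comp_appTop]
        rfl
      smul_zero := fun g => map_zero (ρ g⁻¹).hom.appTop.hom
      smul_add := fun g => map_add (ρ g⁻¹).hom.appTop.hom
      smul_one := fun g => map_one (ρ g⁻¹).hom.appTop.hom
      smul_mul := fun g => map_mul (ρ g⁻¹).hom.appTop.hom }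
  letI := p.appTop.hom.toAlgebra
  haveI : Algebra.IsInvariant Γ(M, ⊤) Γ(X, ⊤) G := ⟨fun a ha => heq a fun g => by
    have h : (ρ g⁻¹⁻¹).hom.appTop.hom a = a := ha g⁻¹
    rwa [inv_inv] at h⟩
  have hfix : ∀ (g : G) b, (ρ g).hom.appTop.hom (p.appTop.hom b) = p.appTop.hom b := fun g b => by
    have h := congrArg (fun f : X ⟶ M => f.appTop.hom b) (hinv g)
    simpa [Scheme.Hom.comp_appTop] using h
  haveI : SMulCommClass G Γ(M, ⊤) Γ(X, ⊤) := ⟨fun g b a => by
    show (ρ g⁻¹).hom.appTop.hom (p.appTop.hom b * a) = p.appTop.hom b * (ρ g⁻¹).hom.appTop.hom a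
    rw [map_mul, hfix]⟩
  haveI hint : IsIntegralHom p := (HasAffineProperty.iff_of_isAffine (P := @IsIntegralHom)).2
    ⟨inferInstance, (Algebra.IsInvariant.isIntegral Γ(M, ⊤) Γ(X, ⊤) G).isIntegral⟩
  have hnat : ∀ {Y : Scheme.{u}} [IsAffine Y] (f : X ⟶ Y) (x : X),
      (Y.isoSpec.hom (f x)).asIdeal = ((X.isoSpec.hom x).asIdeal).comap f.appTop.hom := fun f x => by
    rw [← Scheme.Hom.comp_apply, ← Scheme.isoSpec_hom_naturality]; rfl
  have hrel : ∀ x y : X, p x = p y → ∃ g : G, (ρ g).hom x = y := fun x y h => by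
    obtain ⟨g, hg⟩ := Algebra.IsInvariant.exists_smul_of_under_eq Γ(M, ⊤) Γ(X, ⊤) G
      (X.isoSpec.hom x).asIdeal (X.isoSpec.hom y).asIdeal (by
        show ((X.isoSpec.hom x).asIdeal).comap p.appTop.hom = ((X.isoSpec.hom y).asIdeal).comap p.appTop.hom
        rw [← hnat, ← hnat, h])
    refine ⟨g, X.isoSpec.hom.homeomorph.injective (PrimeSpectrum.ext (Ideal.ext fun a => ?_))⟩
    show a ∈ (X.isoSpec.hom ((ρ g).hom x)).asIdeal ↔ a ∈ (X.isoSpec.hom y).asIdeal
    rw [hnat, hg, Ideal.mem_pointwise_smul_iff_inv_smul_mem]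
    show _ ↔ (ρ g⁻¹⁻¹).hom.appTop.hom a ∈ _
    rw [inv_inv]; rfl
  have hsurj : Function.Surjective p := fun y => by
    obtain ⟨P, hP⟩ := RingHom.IsIntegral.comap_surjective (f := p.appTop.hom)
      (Algebra.IsInvariant.isIntegral Γ(M, ⊤) Γ(X, ⊤) G).isIntegral hinj (M.isoSpec.hom y)
    obtain ⟨x, rfl⟩ := X.isoSpec.hom.homeomorph.surjective P
    exact ⟨x, M.isoSpec.hom.homeomorph.injective (PrimeSpectrum.ext ((hnat p x).trans (congrArg PrimeSpectrum.asIdeal hP)))⟩
  have hopen : IsOpenMap p := fun O hO => by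
    rw [← (p.isClosedMap.isQuotientMap p.continuous hsurj).isOpen_preimage]
    have : p ⁻¹' (p '' O) = ⋃ g : G, (ρ g).hom ⁻¹' O := by
      ext x
      simp only [Set.mem_preimage, Set.mem_image, Set.mem_iUnion]
      constructor
      · rintro ⟨z, hz, hzx⟩
        obtain ⟨g, hg⟩ := hrel x z hzx.symm
        exact ⟨g, hg.symm ▸ hz⟩
      · rintro ⟨g, hg⟩
        exact ⟨_, hg, congrArg (fun f => f x) (hinv g)⟩
    rw [this]
    exact isOpen_iUnion fun g => hO.preimage (ρ g).hom.continuous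
  have H : Coeq6.Pred.IsQuot (Base.srcMap ρ) (Base.actMap ρ) p := by
    refine Coeq6.Affine.isQuot _ _ p (Sigma.hom_ext _ _ fun g => by simp [hinv g]) hsurj hopen (fun x y h => ?_) hinj
      fun a ha => heq a fun g => ?_
    · obtain ⟨g, hg⟩ := hrel y x h.symm
      refine ⟨Sigma.ι (fun _ : G => X) g y, ?_, ?_⟩
      · rw [← Scheme.Hom.comp_apply, Sigma.ι_desc]; exact hg
      · rw [← Scheme.Hom.comp_apply, Sigma.ι_desc]; rfl
    · have h := congrArg (fun z => (Sigma.ι (fun _ : G => X) g).appTop.hom z) ha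
      simp only [← CommRingCat.comp_apply, ← Scheme.Hom.comp_appTop, Sigma.ι_desc] at h
      simpa using h.symm
  exact ⟨H, OfPred.isQuot H inferInstance⟩

end Groth.Agent.SGA1Q.AffineQ

namespace Groth.Agent.SGA1Q.Restrict

variable {X : Scheme.{u}} {G : Type u} [Group G] (ρ : G →* Aut X) (W : X.Opens)

/-- the inclusion of `G × W` in `G × X` -/
abbrev jR : (∐ fun _ : G => W.toScheme) ⟶ ∐ fun _ : G => X := Sigma.desc fun g => W.ι ≫ Sigma.ι (fun _ : G => X) g

omit [Group G] in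
theorem isOpenImmersion_jR : IsOpenImmersion (jR (G := G) W) := by
  refine isOpenImmersion_sigmaDesc _ _ fun a b hab => ?_
  have h := disjoint_opensRange_sigmaι (fun _ : G => X) a b hab
  refine Set.disjoint_left.2 ?_
  rintro _ ⟨x, rfl⟩ ⟨y, hy⟩
  have := TopologicalSpace.Opens.coe_disjoint.2 h
  exact Set.disjoint_left.1 this ⟨W.ι x, rfl⟩ ⟨W.ι y, hy⟩

theorem range_jR : Set.range (jR (G := G) W) = Base.srcMap ρ ⁻¹' Set.range W.ι := by
  ext r
  constructor
  · rintro ⟨z, rfl⟩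
    obtain ⟨g, w, rfl⟩ := (sigmaOpenCover fun _ : G => W.toScheme).exists_eq z
    refine ⟨w, ?_⟩
    have : Sigma.ι (fun _ : G => W.toScheme) g ≫ jR W ≫ Base.srcMap ρ = W.ι := by simp
    exact (congrArg (fun f => f w) this).symm
  · rintro ⟨w, hw⟩
    obtain ⟨g, z, rfl⟩ := (sigmaOpenCover fun _ : G => X).exists_eq r
    refine ⟨Sigma.ι (fun _ : G => W.toScheme) g w, ?_⟩
    rw [← Scheme.Hom.comp_apply, Sigma.ι_desc, Scheme.Hom.comp_apply]
    congr 1
    refine hw.trans ?_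
    show Base.srcMap ρ (Sigma.ι (fun _ : G => X) g z) = z
    rw [← Scheme.Hom.comp_apply, Sigma.ι_desc]; rfl

end Groth.Agent.SGA1Q.Restrict

end
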