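import Groth.Agent.SGA1Q.Base
import Mathlib.RingTheory.Polynomial.Basic

/-!
Geometric points with the same image in a quotient differ by a group element.
-/

universe u v w

open CategoryTheory AlgebraicGeometry Limits Polynomial

set_option linter.style.haveILetI false
set_option backward.isDefEq.respectTransparency.types false

noncomputable section

namespace Groth.Agent.SGA1Q.GeomOrbit

theorem exists_smul {A : Type u} [CommRing A] {G : Type v} [Group G] [Finite G]
    [MulSemiringAction G A] {K : Type w} [Field K] (f₁ f₂ : A →+* K)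
    (h : ∀ a : A, (∀ g : G, g • a = a) → f₁ a = f₂ a) :
    ∃ γ : G, ∀ a : A, f₂ a = f₁ (γ • a) := by
  classical
  cases nonempty_fintype G
  by_contra! hne
  choose b hb using hne
  let e := Fintype.equivFin G
  let P : A[X] := ∑ g : G, monomial (e g : ℕ) (b g)
  have hP : ∀ g, P.coeff (e g : ℕ) = b g := fun g => by
    simp [P, finsetSum_coeff, coeff_monomial, Fin.val_inj]
  let F : A[X][X] := ∏ g : G, (Polynomial.X - C (P.map (MulSemiringAction.toRingHom G A g)))
  have hF : ∀ (τ : G), F.map (mapRingHom (MulSemiringAction.toRingHom G A τ)) = F := by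
    intro τ
    simp only [F, Polynomial.map_prod, Polynomial.map_sub, map_X, map_C, coe_mapRingHom, Polynomial.map_map]
    refine Fintype.prod_equiv (Equiv.mulLeft τ) _ _ fun g => ?_
    congr 3
    ext a
    simp [mul_smul]
  have hFm : F.map (mapRingHom f₁) = F.map (mapRingHom f₂) := by
    ext i j
    simp only [coeff_map, coe_mapRingHom]
    refine h _ fun τ => ?_
    conv_rhs => rw [← hF τ]
    simp only [coeff_map, coe_mapRingHom]
    rfl
  have h2 : (F.map (mapRingHom f₂)).eval (P.map f₂) = 0 := by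
    simp only [F, Polynomial.map_prod, eval_prod, Polynomial.map_sub, map_X, map_C, eval_sub, eval_X, eval_C,
      coe_mapRingHom, Polynomial.map_map]
    refine Finset.prod_eq_zero (Finset.mem_univ 1) (sub_eq_zero.2 ?_)
    congr 1
    ext a
    simp
  rw [← hFm] at h2
  simp only [F, Polynomial.map_prod, eval_prod, Polynomial.map_sub, map_X, map_C, eval_sub, eval_X, eval_C,
    coe_mapRingHom, Polynomial.map_map, Finset.prod_eq_zero_iff, sub_eq_zero] at h2
  obtain ⟨g, -, hg⟩ := h2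
  have := congrArg (fun q => q.coeff (e g : ℕ)) hg
  simp only [coeff_map, hP, RingHom.comp_apply, MulSemiringAction.toRingHom_apply] at this
  exact hb g this

variable {X Y : Scheme.{u}} {G : Type u} [Group G] [Finite G] {ρ : G →* Aut X} {p : X ⟶ Y}

theorem spec_ext {T U : Scheme.{u}} [IsAffine U] (a b : T ⟶ U) (h : a.appTop = b.appTop) : a = b :=
  ext_of_isAffine h

theorem main (hp : SGA1.IsQuot ρ p) {K : Type u} [Field K] (ξ₁ ξ₂ : Spec (CommRingCat.of K) ⟶ X)
    (h : ξ₁ ≫ p = ξ₂ ≫ p) : ∃ g : G, ξ₁ ≫ (ρ g).hom = ξ₂ := by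
  haveI := hp.affine
  obtain ⟨_, ⟨V', hV, rfl⟩, hmem, -⟩ := Y.isBasis_affineOpens.exists_subset_of_mem_open
    (Set.mem_univ ((ξ₁ ≫ p) (IsLocalRing.closedPoint K))) isOpen_univ
  let V : Y.Opens := V'
  have hV' : IsAffineOpen V := hV
  let U := p ⁻¹ᵁ V
  haveI : IsAffine U.toScheme := hV'.preimage p
  have hl : ∀ ξ : Spec (CommRingCat.of K) ⟶ X, ξ ≫ p = ξ₁ ≫ p → Set.range ξ ⊆ Set.range U.ι := by
    rintro ξ e _ ⟨z, rfl⟩
    rw [Scheme.Opens.range_ι, Subsingleton.elim z (IsLocalRing.closedPoint K)]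
    show p (ξ _) ∈ V
    rw [← Scheme.Hom.comp_apply, e]
    exact hmem
  let η₁ := IsOpenImmersion.lift U.ι ξ₁ (hl ξ₁ rfl)
  let η₂ := IsOpenImmersion.lift U.ι ξ₂ (hl ξ₂ h.symm)
  have hη : η₁ ≫ p ∣_ V = η₂ ≫ p ∣_ V := by
    rw [← cancel_mono V.ι]
    simp only [η₁, η₂, Category.assoc, morphismRestrict_ι]
    erw [IsOpenImmersion.lift_fac_assoc, IsOpenImmersion.lift_fac_assoc]
    exact h
  let E := Scheme.ΓSpecIso (CommRingCat.of K)
  let f : (Spec (CommRingCat.of K) ⟶ U.toScheme) → (Γ(X, U) →+* K) := fun η =>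
    (U.topIso.inv ≫ η.appTop ≫ E.hom).hom
  letI := SGA1Q.Base.act hp V
  have heq : ∀ a : Γ(X, U), (∀ g : G, g • a = a) → f η₁ a = f η₂ a := by
    intro a ha
    obtain ⟨b, rfl⟩ := (hp.range_iff V a).2 fun g => (by
      have := ha g⁻¹
      change SGA1Q.Base.σ hp V g⁻¹⁻¹ a = a at this
      rw [inv_inv] at this
      exact this)
    have e1 : p.app V ≫ U.topIso.inv = V.topIso.inv ≫ (p ∣_ V).appTop := by
      rw [← Scheme.Hom.resLE_eq_morphismRestrict, show (p.resLE V (p ⁻¹ᵁ V) le_rfl).appTop = _ from Scheme.Hom.resLE_app_top _ _,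
        Iso.inv_hom_id_assoc, Scheme.Hom.app_eq_appLE]
    have key : ∀ η, f η ((p.app V).hom b) = (V.topIso.inv ≫ (η ≫ p ∣_ V).appTop ≫ E.hom).hom b := fun η => by
      rw [Scheme.Hom.comp_appTop, Category.assoc, ← reassoc_of% e1]
      rfl
    rw [key, key, hη]
  obtain ⟨γ, hγ⟩ := exists_smul (f η₁) (f η₂) heq
  refine ⟨γ⁻¹, ?_⟩
  let r := (ρ γ⁻¹).hom.resLE U U (SGA1.preimage_le_of_inv ρ p hp.inv γ⁻¹ V)
  have : η₁ ≫ r = η₂ := by
    refine spec_ext _ _ (?_)
    rw [← cancel_mono E.hom, ← cancel_epi U.topIso.inv]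
    refine CommRingCat.hom_ext (RingHom.ext fun a => ?_)
    refine Eq.trans ?_ (hγ a).symm
    have e2 : U.topIso.inv ≫ r.appTop = (ρ γ⁻¹).hom.appLE U U (SGA1.preimage_le_of_inv ρ p hp.inv γ⁻¹ V) ≫ U.topIso.inv := by
      rw [show r.appTop = _ from Scheme.Hom.resLE_app_top _ _, Iso.inv_hom_id_assoc]
    rw [Scheme.Hom.comp_appTop, Category.assoc, reassoc_of% e2]
    rfl
  have := congrArg (· ≫ U.ι) this
  simpa [r, η₁, η₂, Scheme.Hom.resLE_comp_ι, IsOpenImmersion.lift_fac_assoc] using this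

end Groth.Agent.SGA1Q.GeomOrbit

end
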