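import Groth.Agent.SGA1Q.Affine
import Groth.Agent.SGA1Q.Props
import Groth.Agent.Coeq6.Main
import Groth.Agent.Coeq6.Action
import Mathlib.RingTheory.FiniteType

/-!
Free quotients by finite groups.
-/

universe u

open CategoryTheory AlgebraicGeometry Limits

set_option linter.style.haveILetI false
set_option backward.isDefEq.respectTransparency.types false

noncomputable section

namespace Groth.Agent.SGA1Q.Free

variable {X : Scheme.{u}} {G : Type u} [Group G] [Finite G] (ρ : G →* Aut X)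

theorem src_affine [IsAffine X] :
    IsFinite (Base.srcMap ρ) ∧ Flat (Base.srcMap ρ) ∧ LocallyOfFinitePresentation (Base.srcMap ρ) := by
  refine ⟨?_, IsZariskiLocalAtSource.sigmaDesc fun _ => inferInstance, IsZariskiLocalAtSource.sigmaDesc fun _ => inferInstance⟩
  let e : (∐ fun _ : G => X) ≅ ∐ fun _ : G => Spec Γ(X, ⊤) := Sigma.mapIso fun _ => X.isoSpec
  let Δ : Γ(X, ⊤) ⟶ CommRingCat.of (G → Γ(X, ⊤)) := CommRingCat.ofHom (RingHom.pi fun _ => RingHom.id _)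
  have hΔ : IsFinite (Spec.map Δ) := by
    rw [IsFinite.SpecMap_iff]
    letI := Δ.hom.toAlgebra
    show Δ.hom.Finite
    haveI : Module.Finite Γ(X, ⊤) (G → Γ(X, ⊤)) := Module.Finite.pi
    exact (inferInstance : Module.Finite Γ(X, ⊤) (G → Γ(X, ⊤)))
  have h : Base.srcMap ρ = (e.hom ≫ sigmaSpec (fun _ : G => Γ(X, ⊤))) ≫ Spec.map Δ ≫ X.isoSpec.inv := by
    refine Limits.Sigma.hom_ext _ _ fun g => ?_
    have he : Sigma.ι (fun _ : G => X) g ≫ e.hom = X.isoSpec.hom ≫ Sigma.ι (fun _ : G => Spec Γ(X, ⊤)) g := by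
      simp [e]
    simp only [Sigma.ι_desc, Category.assoc, reassoc_of% he, sigmaSpec, Sigma.ι_desc_assoc]
    rw [← Spec.map_comp_assoc]
    have : Δ ≫ CommRingCat.ofHom (Pi.evalRingHom (fun _ : G => Γ(X, ⊤)) g) = 𝟙 _ := rfl
    rw [this, Spec.map_id]
    simp
  rw [h]
  infer_instance

theorem src_flags :
    IsFinite (Base.srcMap ρ) ∧ Flat (Base.srcMap ρ) ∧ LocallyOfFinitePresentation (Base.srcMap ρ) := by
  refine ⟨?_, IsZariskiLocalAtSource.sigmaDesc fun _ => inferInstance, IsZariskiLocalAtSource.sigmaDesc fun _ => inferInstance⟩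
  refine (IsZariskiLocalAtTarget.iff_of_iSup_eq_top (P := @IsFinite) _ (iSup_affineOpens_eq_top X)).2 fun W => ?_
  haveI : IsAffine W.1.toScheme := W.2
  haveI := Restrict.isOpenImmersion_jR (G := G) W.1
  let e := IsOpenImmersion.isoOfRangeEq (Restrict.jR (G := G) W.1) (Base.srcMap ρ ⁻¹ᵁ W.1).ι (by
    rw [Restrict.range_jR ρ W.1, Scheme.Opens.range_ι, Scheme.Opens.range_ι]; rfl)
  have he : e.hom ≫ (Base.srcMap ρ ⁻¹ᵁ W.1).ι = Restrict.jR W.1 := IsOpenImmersion.isoOfRangeEq_hom_fac _ _ _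
  have h : e.hom ≫ Base.srcMap ρ ∣_ W.1 = Base.srcMap (1 : G →* Aut W.1.toScheme) := by
    rw [← cancel_mono W.1.ι, Category.assoc, morphismRestrict_ι, reassoc_of% he]
    exact Limits.Sigma.hom_ext _ _ fun g => by simp
  haveI := (src_affine (1 : G →* Aut W.1.toScheme)).1
  rw [show Base.srcMap ρ ∣_ W.1 = e.inv ≫ Base.srcMap (1 : G →* Aut W.1.toScheme) by rw [← h, Iso.inv_hom_id_assoc]]
  infer_instance

/-- the piece of a map to `G × X` with prescribed index -/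
def piece {T : Scheme.{u}} (a : T ⟶ ∐ fun _ : G => X) (g : G) : T.Opens :=
  a ⁻¹ᵁ (Sigma.ι (fun _ : G => X) g).opensRange

omit [Group G] [Finite G] in
theorem exists_piece {T : Scheme.{u}} (a : T ⟶ ∐ fun _ : G => X) (x : T) : ∃ g, x ∈ piece a g := by
  obtain ⟨g, z, hz⟩ := (sigmaOpenCover fun _ : G => X).exists_eq (a x)
  exact ⟨g, z, hz⟩

theorem piece_eq {T : Scheme.{u}} (a : T ⟶ ∐ fun _ : G => X) (g : G) (O : T.Opens) (hO : O ≤ piece a g) :
    O.ι ≫ a = (O.ι ≫ a ≫ Base.srcMap ρ) ≫ Sigma.ι (fun _ : G => X) g := by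
  let z := IsOpenImmersion.lift (Sigma.ι (fun _ : G => X) g) (O.ι ≫ a) (by
    rintro _ ⟨w, rfl⟩; exact hO w.2)
  have hz : z ≫ Sigma.ι (fun _ : G => X) g = O.ι ≫ a := IsOpenImmersion.lift_fac _ _ _
  have : z = O.ι ≫ a ≫ Base.srcMap ρ := by rw [← reassoc_of% hz]; simp
  rw [← this, hz]

variable (hfree : ∀ (K : Type u) [Field K] [IsAlgClosed K] (ξ : Spec (CommRingCat.of K) ⟶ X) (g : G),
  ξ ≫ (ρ g).hom = ξ → g = 1)

include hfree in
theorem joint {T : Scheme.{u}} (a b : T ⟶ ∐ fun _ : G => X) (h₁ : a ≫ Base.actMap ρ = b ≫ Base.actMap ρ)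
    (h₂ : a ≫ Base.srcMap ρ = b ≫ Base.srcMap ρ) : a = b := by
  have key : ∀ x : T, ∃ g, x ∈ piece a g ⊓ piece b g := by
    intro x
    obtain ⟨g, hg⟩ := exists_piece a x
    obtain ⟨k, hk⟩ := exists_piece b x
    let O := piece a g ⊓ piece b k
    let K := AlgebraicClosure (T.residueField x)
    let ξ₀ : Spec (CommRingCat.of K) ⟶ T :=
      Spec.map (CommRingCat.ofHom (algebraMap (T.residueField x) K)) ≫ T.fromSpecResidueField x
    let ξ : Spec (CommRingCat.of K) ⟶ O.toScheme := IsOpenImmersion.lift O.ι ξ₀ (by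
      rintro _ ⟨w, rfl⟩
      rw [Scheme.Opens.range_ι, Scheme.Hom.comp_apply, Scheme.fromSpecResidueField_apply]
      exact ⟨hg, hk⟩)
    have ea : O.ι ≫ a ≫ Base.actMap ρ = (O.ι ≫ a ≫ Base.srcMap ρ) ≫ (ρ g).hom := by
      rw [← Category.assoc O.ι, piece_eq ρ a g O inf_le_left]; simp
    have eb : O.ι ≫ b ≫ Base.actMap ρ = (O.ι ≫ b ≫ Base.srcMap ρ) ≫ (ρ k).hom := by
      rw [← Category.assoc O.ι, piece_eq ρ b k O inf_le_right]; simp
    rw [h₁, eb, h₂] at ea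
    have h3 : k⁻¹ * g = 1 := by
      refine hfree K (ξ ≫ O.ι ≫ b ≫ Base.srcMap ρ) (k⁻¹ * g) ?_
      rw [map_mul, show (ρ k⁻¹ * ρ g).hom = (ρ g).hom ≫ (ρ k⁻¹).hom from rfl]
      simp only [Category.assoc] at ea ⊢
      rw [← reassoc_of% ea, show (ρ k).hom ≫ (ρ k⁻¹).hom = (ρ (k⁻¹ * k)).hom by rw [map_mul]; rfl, inv_mul_cancel, map_one]
      show ξ ≫ O.ι ≫ b ≫ Base.srcMap ρ ≫ 𝟙 X = _
      rw [Category.comp_id]
    rw [inv_mul_eq_one] at h3
    exact ⟨g, hg, h3 ▸ hk⟩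
  refine (T.openCoverOfIsOpenCover (fun g => piece a g ⊓ piece b g)
    (TopologicalSpace.IsOpenCover.mk (eq_top_iff.2 fun x _ => TopologicalSpace.Opens.mem_iSup.2 (key x)))).hom_ext _ _
    fun (g : G) => ?_
  show (piece a g ⊓ piece b g).ι ≫ a = (piece a g ⊓ piece b g).ι ≫ b
  rw [piece_eq ρ a g _ inf_le_left, piece_eq ρ b g _ inf_le_right, h₂]

theorem exists_comp (hj : ∀ {T : Scheme.{u}} (a b : T ⟶ ∐ fun _ : G => X), a ≫ Base.actMap ρ = b ≫ Base.actMap ρ →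
      a ≫ Base.srcMap ρ = b ≫ Base.srcMap ρ → a = b) :
    ∃ c : pullback (Base.srcMap ρ) (Base.actMap ρ) ⟶ ∐ fun _ : G => X,
      c ≫ Base.srcMap ρ = pullback.snd _ _ ≫ Base.srcMap ρ ∧ c ≫ Base.actMap ρ = pullback.fst _ _ ≫ Base.actMap ρ := by
  let f := pullback.fst (Base.srcMap ρ) (Base.actMap ρ)
  let s := pullback.snd (Base.srcMap ρ) (Base.actMap ρ)
  let P : G × G → (pullback (Base.srcMap ρ) (Base.actMap ρ)).Opens := fun gh => piece f gh.1 ⊓ piece s gh.2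
  have hcov : TopologicalSpace.IsOpenCover P := TopologicalSpace.IsOpenCover.mk (eq_top_iff.2 fun x _ => by
    obtain ⟨g, hg⟩ := exists_piece f x
    obtain ⟨h, hh⟩ := exists_piece s x
    exact TopologicalSpace.Opens.mem_iSup.2 ⟨(g, h), hg, hh⟩)
  let 𝒰 := (pullback (Base.srcMap ρ) (Base.actMap ρ)).openCoverOfIsOpenCover P hcov
  let loc : ∀ gh : G × G, (P gh).toScheme ⟶ ∐ fun _ : G => X := fun gh =>
    ((P gh).ι ≫ s ≫ Base.srcMap ρ) ≫ Sigma.ι (fun _ : G => X) (gh.1 * gh.2)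
  have l₁ : ∀ gh, loc gh ≫ Base.srcMap ρ = (P gh).ι ≫ s ≫ Base.srcMap ρ := fun gh => by simp [loc]
  have l₂ : ∀ gh, loc gh ≫ Base.actMap ρ = (P gh).ι ≫ f ≫ Base.actMap ρ := fun gh => by
    have hcond : f ≫ Base.srcMap ρ = s ≫ Base.actMap ρ := pullback.condition
    have ef : (P gh).ι ≫ f ≫ Base.actMap ρ = ((P gh).ι ≫ f ≫ Base.srcMap ρ) ≫ (ρ gh.1).hom := by
      have h := congrArg (· ≫ Base.actMap ρ) (piece_eq ρ f gh.1 (P gh) inf_le_left)
      simpa using h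
    have es : (P gh).ι ≫ s ≫ Base.actMap ρ = ((P gh).ι ≫ s ≫ Base.srcMap ρ) ≫ (ρ gh.2).hom := by
      have h := congrArg (· ≫ Base.actMap ρ) (piece_eq ρ s gh.2 (P gh) inf_le_right)
      simpa using h
    rw [ef, hcond, es]
    simp only [loc, Category.assoc, Sigma.ι_desc]
    rw [map_mul]; rfl
  have hgl : ∀ a b : G × G, pullback.fst (P a).ι (P b).ι ≫ loc a = pullback.snd (P a).ι (P b).ι ≫ loc b := fun a b => hj _ _
    (by simp only [Category.assoc, l₂, pullback.condition_assoc]) (by simp only [Category.assoc, l₁, pullback.condition_assoc])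
  refine ⟨𝒰.glueMorphisms loc hgl, Scheme.Cover.hom_ext 𝒰 _ _ fun (gh : G × G) => ?_, Scheme.Cover.hom_ext 𝒰 _ _ fun (gh : G × G) => ?_⟩
  · rw [Scheme.Cover.ι_glueMorphisms_assoc]; exact l₁ gh
  · rw [Scheme.Cover.ι_glueMorphisms_assoc]; exact l₂ gh

variable {Y : Scheme.{u}} {p : X ⟶ Y}

include hfree in
theorem main (hp : SGA1.IsQuot ρ p) :
    IsPullback (Base.srcMap ρ) (Base.actMap ρ) p p ∧ IsFinite p ∧ Flat p ∧ LocallyOfFinitePresentation p := by
  classical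
  obtain ⟨hs1, hs2, hs3⟩ := src_flags ρ
  haveI := hp.affine
  obtain ⟨c, hc₁, hc₂⟩ := exists_comp ρ (fun a b => joint ρ hfree a b)
  have hinv : ∀ g : G, (ρ g).hom ≫ p = p := hp.inv
  let q₀ : (∐ fun _ : G => X) ⟶ Y := Base.srcMap ρ ≫ p
  have hact : Base.actMap ρ ≫ p = q₀ := Limits.Sigma.hom_ext _ _ fun g => by simp [q₀, hinv g]
  let H : Grpd.GroupoidScheme Y := Coeq6.Action.ofRel X (∐ fun _ : G => X) p q₀ (Base.srcMap ρ) (Base.actMap ρ) rfl hact
    (fun a b h₁ h₂ => joint ρ hfree a b h₁ h₂)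
    (Sigma.ι (fun _ : G => X) 1) (by simp) (by simp only [Sigma.ι_desc, map_one]; rfl)
    (Sigma.desc fun g => (ρ g).hom ≫ Sigma.ι (fun _ : G => X) g⁻¹)
    (Limits.Sigma.hom_ext _ _ fun g => by simp) (Limits.Sigma.hom_ext _ _ fun g => by
      simp only [Sigma.ι_desc_assoc, Category.assoc, Sigma.ι_desc]
      rw [show (ρ g).hom ≫ (ρ g⁻¹).hom = (ρ (g⁻¹ * g)).hom by rw [map_mul]; rfl, inv_mul_cancel, map_one]; rfl)
    c hc₁ hc₂
  haveI : IsFinite H.s := hs1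
  haveI : Flat H.s := hs2
  haveI : LocallyOfFinitePresentation H.s := hs3
  haveI : Mono H.j := ⟨fun {T} a b h => by
    refine joint ρ hfree a b ?_ ?_
    · have := congrArg (· ≫ pullback.fst H.pU H.pU) h
      simp only [Category.assoc, Grpd.GroupoidScheme.j, pullback.lift_fst] at this
      exact this
    · have := congrArg (· ≫ pullback.snd H.pU H.pU) h
      simp only [Category.assoc, Grpd.GroupoidScheme.j, pullback.lift_snd] at this
      exact this⟩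
  have hb : ∀ x : H.U, ∃ V : H.U.Opens, IsAffineOpen V ∧ H.t.base '' (H.s.base ⁻¹' {x}) ⊆ (V : Set H.U) := by
    intro x
    obtain ⟨_, ⟨W, hW, rfl⟩, hxW, -⟩ := Y.isBasis_affineOpens.exists_subset_of_mem_open (Set.mem_univ (p x)) isOpen_univ
    refine ⟨p ⁻¹ᵁ W, IsAffineOpen.preimage hW p, ?_⟩
    rintro _ ⟨r, hr, rfl⟩
    show p (Base.actMap ρ r) ∈ W
    rw [← Scheme.Hom.comp_apply, hact, Scheme.Hom.comp_apply, show Base.srcMap ρ r = x from hr]
    exact hxW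
  have HQ := Base.isQuot hp
  obtain ⟨hP, h⟩ := Coeq6.Main.isPullback_finLocFree H hb Y p HQ.w.symm
    (Cofork.IsColimit.mk _ (fun c => (Coeq6.Pred.exists_desc HQ c.π c.condition.symm).choose)
      (fun c => (Coeq6.Pred.exists_desc HQ c.π c.condition.symm).choose_spec)
      (fun c m hm => Coeq6.Pred.unique_desc HQ _ _ (hm.trans (Coeq6.Pred.exists_desc HQ c.π c.condition.symm).choose_spec.symm)))
  exact ⟨hP.flip, h⟩

end Groth.Agent.SGA1Q.Free

end
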