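import Groth.Agent.SGA1Q.Free
import Groth.Agent.AlgSpTopo.SourceScheme
import Mathlib.AlgebraicGeometry.Morphisms.FlatMono
import Mathlib.AlgebraicGeometry.Morphisms.LocalFlatDescent
import Mathlib.AlgebraicGeometry.Sites.Fpqc
import Mathlib.AlgebraicGeometry.ZariskisMainTheorem

/-!
Quotients of etale schemes by finite groups are etale.
-/

universe u

open CategoryTheory AlgebraicGeometry Limits

set_option linter.style.haveILetI false
set_option linter.unusedSectionVars false
set_option backward.isDefEq.respectTransparency.types false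

noncomputable section

namespace Groth.Agent.SGA1Q.EtaleQuot

variable {X Y : Scheme.{u}} {G : Type u} [Group G] [Finite G] {ρ : G →* Aut X} (f : X ⟶ Y) [Etale f] [IsSeparated f]
  (hρ : ∀ g : G, (ρ g).hom ≫ f = f)

/-- the graph of an element -/
def graph (g : G) : X ⟶ pullback f f := pullback.lift (𝟙 X) (ρ g).hom ((Category.id_comp f).trans (hρ g).symm)

@[simp, reassoc] theorem graph_fst (g : G) : graph f hρ g ≫ pullback.fst f f = 𝟙 X := pullback.lift_fst _ _ _

@[simp, reassoc] theorem graph_snd (g : G) : graph f hρ g ≫ pullback.snd f f = (ρ g).hom := pullback.lift_snd _ _ _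

instance graph_etale (g : G) : Etale (graph f hρ g) := by
  haveI : Etale (graph f hρ g ≫ pullback.fst f f) := by rw [graph_fst]; infer_instance
  exact Etale.of_comp _ (pullback.fst f f)

instance graph_openImmersion (g : G) : IsOpenImmersion (graph f hρ g) := by
  haveI : IsSplitMono (graph f hρ g) := ⟨⟨⟨pullback.fst f f, graph_fst f hρ g⟩⟩⟩
  exact IsOpenImmersion.of_flat_of_mono _

theorem isClosed_range_graph (g : G) : IsClosed (Set.range (graph f hρ g)) := by
  haveI : IsClosedImmersion (graph f hρ g ≫ pullback.fst f f) := by rw [graph_fst]; infer_instance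
  haveI := IsClosedImmersion.of_comp (graph f hρ g) (pullback.fst f f)
  exact (graph f hρ g).isClosedEmbedding.isClosed_range

/-- the relation -/
def O : (pullback f f).Opens := ⨆ g : G, (graph f hρ g).opensRange

theorem graph_mem (g : G) : Set.range (graph f hρ g) ⊆ Set.range (O f hρ).ι := by
  rw [Scheme.Opens.range_ι]
  exact fun z hz => TopologicalSpace.Opens.mem_iSup.2 ⟨g, hz⟩

theorem isClosed_O : IsClosed (O f hρ : Set ↥(pullback f f)) := by
  have : (O f hρ : Set ↥(pullback f f)) = ⋃ g : G, Set.range (graph f hρ g) := TopologicalSpace.Opens.coe_iSup _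
  rw [this]
  exact isClosed_iUnion_of_finite fun g => isClosed_range_graph f hρ g

/-- source -/
abbrev rs : (O f hρ).toScheme ⟶ X := (O f hρ).ι ≫ pullback.fst f f

/-- target -/
abbrev rt : (O f hρ).toScheme ⟶ X := (O f hρ).ι ≫ pullback.snd f f

/-- the surjection from `G × X` -/
def cover : (∐ fun _ : G => X) ⟶ (O f hρ).toScheme :=
  Sigma.desc fun g => IsOpenImmersion.lift (O f hρ).ι (graph f hρ g) (graph_mem f hρ g)

theorem cover_s : cover f hρ ≫ rs f hρ = Base.srcMap ρ :=
  Limits.Sigma.hom_ext _ _ fun g => by simp [cover]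

theorem cover_t : cover f hρ ≫ rt f hρ = Base.actMap ρ :=
  Limits.Sigma.hom_ext _ _ fun g => by simp [cover]

instance cover_etale : Etale (cover f hρ) := by
  refine IsZariskiLocalAtSource.sigmaDesc fun g => ?_
  haveI : IsOpenImmersion (IsOpenImmersion.lift (O f hρ).ι (graph f hρ g) (graph_mem f hρ g) ≫ (O f hρ).ι) := by
    rw [IsOpenImmersion.lift_fac]; infer_instance
  haveI := IsOpenImmersion.of_comp (IsOpenImmersion.lift (O f hρ).ι (graph f hρ g) (graph_mem f hρ g)) (O f hρ).ι
  infer_instance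

instance cover_surjective : Surjective (cover f hρ) := ⟨fun z => by
  obtain ⟨g, x, hx⟩ := TopologicalSpace.Opens.mem_iSup.1 z.2
  refine ⟨Sigma.ι (fun _ : G => X) g x, (O f hρ).ι.isOpenEmbedding.injective ?_⟩
  rw [← Scheme.Hom.comp_apply, ← Scheme.Hom.comp_apply]
  simp only [cover, Sigma.ι_desc_assoc, IsOpenImmersion.lift_fac]
  exact hx⟩

theorem rs_flags : IsFinite (rs f hρ) ∧ Flat (rs f hρ) ∧ LocallyOfFinitePresentation (rs f hρ) := by
  haveI : IsClosedImmersion (O f hρ).ι := .of_isPreimmersion _ (by rw [Scheme.Opens.range_ι]; exact isClosed_O f hρ)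
  haveI h1 : IsFinite (Base.srcMap ρ) := (Free.src_flags ρ).1
  haveI : UniversallyClosed (cover f hρ ≫ rs f hρ) := by rw [cover_s]; infer_instance
  haveI : UniversallyClosed (rs f hρ) := UniversallyClosed.of_comp_surjective (cover f hρ) _
  haveI : QuasiCompact (rs f hρ) := inferInstance
  haveI : IsProper (rs f hρ) := { }
  haveI : LocallyQuasiFinite (rs f hρ) := AlgSpTopo.etaleLocal_locallyQuasiFinite.of_etale _ inferInstance
  exact ⟨IsFinite.of_isProper_of_locallyQuasiFinite _, inferInstance, inferInstance⟩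

variable {X' : Scheme.{u}} {p : X ⟶ X'} {q : X' ⟶ Y}

include hρ in
theorem main [IsLocallyNoetherian Y] [QuasiCompact f] (hp : SGA1.IsQuot ρ p) (hq : p ≫ q = f) :
    Etale p ∧ Etale q ∧ (IsFinite f → IsFinite q) := by
  classical
  let R := (O f hρ).toScheme
  let s := rs f hρ
  let t := rt f hρ
  have joint : ∀ {T : Scheme.{u}} (a b : T ⟶ R), a ≫ t = b ≫ t → a ≫ s = b ≫ s → a = b := fun a b h₁ h₂ => by
    rw [← cancel_mono (O f hρ).ι]
    apply pullback.hom_ext
    · simpa [s] using h₂
    · simpa [t] using h₁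
  have hst : s ≫ f = t ≫ f := by simp [s, t, pullback.condition]
  -- identity
  let e : X ⟶ R := IsOpenImmersion.lift (O f hρ).ι (graph f hρ 1) (graph_mem f hρ 1)
  have hes : e ≫ s = 𝟙 X := by simp [e, s]
  have het : e ≫ t = 𝟙 X := by
    simp only [e, t, rt, IsOpenImmersion.lift_fac_assoc, graph_snd, map_one]; rfl
  -- inverse
  let σ := pullback.lift (pullback.snd f f) (pullback.fst f f) pullback.condition.symm
  have hσ : ∀ g : G, graph f hρ g ≫ σ = (ρ g).hom ≫ graph f hρ g⁻¹ := fun g => by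
    apply pullback.hom_ext
    · simp [σ, pullback.lift_fst]
    · simp only [σ, Category.assoc, pullback.lift_snd, graph_fst, graph_snd]
      rw [show (ρ g).hom ≫ (ρ g⁻¹).hom = (ρ (g⁻¹ * g)).hom by rw [map_mul]; rfl, inv_mul_cancel, map_one]; rfl
  have hσO : Set.range ((O f hρ).ι ≫ σ) ⊆ Set.range (O f hρ).ι := by
    rintro _ ⟨z, rfl⟩
    obtain ⟨g, x, hx⟩ := TopologicalSpace.Opens.mem_iSup.1 z.2
    refine graph_mem f hρ g⁻¹ ⟨(ρ g).hom x, ?_⟩
    rw [← Scheme.Hom.comp_apply, ← hσ, Scheme.Hom.comp_apply, hx]; rfl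
  let i : R ⟶ R := IsOpenImmersion.lift (O f hρ).ι _ hσO
  have his : i ≫ s = t := by
    simp only [i, s, rs, IsOpenImmersion.lift_fac_assoc, Category.assoc, σ, pullback.lift_fst]; rfl
  have hit : i ≫ t = s := by
    simp only [i, t, rt, IsOpenImmersion.lift_fac_assoc, Category.assoc, σ, pullback.lift_snd]; rfl
  -- composition
  let m : pullback s t ⟶ pullback f f := pullback.lift (pullback.snd s t ≫ s) (pullback.fst s t ≫ t) 
    ((Category.assoc _ _ _).trans ((congrArg (pullback.snd s t ≫ ·) hst).trans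
      ((pullback.condition_assoc (f := s) (g := t) f).symm.trans
        ((congrArg (pullback.fst s t ≫ ·) hst).trans (Category.assoc _ _ _).symm))))
  have hm : Set.range m ⊆ Set.range (O f hρ).ι := by
    rintro _ ⟨z, rfl⟩
    obtain ⟨h, x₁, hx₁⟩ := TopologicalSpace.Opens.mem_iSup.1 (pullback.fst s t z).2
    obtain ⟨g, x₂, hx₂⟩ := TopologicalSpace.Opens.mem_iSup.1 (pullback.snd s t z).2
    let a := pullback.fst s t ≫ (O f hρ).ι
    let b := pullback.snd s t ≫ (O f hρ).ι
    let P : (pullback s t).Opens := a ⁻¹ᵁ (graph f hρ h).opensRange ⊓ b ⁻¹ᵁ (graph f hρ g).opensRange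
    let za := IsOpenImmersion.lift (graph f hρ h) (P.ι ≫ a) (by rintro _ ⟨w, rfl⟩; exact w.2.1)
    let zb := IsOpenImmersion.lift (graph f hρ g) (P.ι ≫ b) (by rintro _ ⟨w, rfl⟩; exact w.2.2)
    have hza : za ≫ graph f hρ h = P.ι ≫ a := IsOpenImmersion.lift_fac _ _ _
    have hzb : zb ≫ graph f hρ g = P.ι ≫ b := IsOpenImmersion.lift_fac _ _ _
    have a1 : za = P.ι ≫ pullback.fst s t ≫ s := by
      simpa [a, s] using congrArg (· ≫ pullback.fst f f) hza
    have a2 : P.ι ≫ pullback.fst s t ≫ t = za ≫ (ρ h).hom := by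
      simpa [a, t] using (congrArg (· ≫ pullback.snd f f) hza).symm
    have b1 : zb = P.ι ≫ pullback.snd s t ≫ s := by
      simpa [b, s] using congrArg (· ≫ pullback.fst f f) hzb
    have b2 : P.ι ≫ pullback.snd s t ≫ t = zb ≫ (ρ g).hom := by
      simpa [b, t] using (congrArg (· ≫ pullback.snd f f) hzb).symm
    have key : P.ι ≫ m = zb ≫ graph f hρ (h * g) := by
      apply pullback.hom_ext
      · simp only [m, Category.assoc, pullback.lift_fst, graph_fst, Category.comp_id, b1]
      · simp only [m, Category.assoc, pullback.lift_snd, graph_snd]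
        rw [a2, a1, pullback.condition, b2, Category.assoc, map_mul]; rfl
    have hzP : z ∈ P := ⟨⟨x₁, hx₁⟩, ⟨x₂, hx₂⟩⟩
    refine graph_mem f hρ (h * g) ⟨zb ⟨z, hzP⟩, ?_⟩
    rw [← Scheme.Hom.comp_apply, ← key]; rfl
  let c : pullback s t ⟶ R := IsOpenImmersion.lift (O f hρ).ι m hm
  have hcs : c ≫ s = pullback.snd s t ≫ s := by
    simp only [c, s, rs, IsOpenImmersion.lift_fac_assoc, m, pullback.lift_fst]
  have hct : c ≫ t = pullback.fst s t ≫ t := by
    simp only [c, t, rt, IsOpenImmersion.lift_fac_assoc, m, pullback.lift_snd]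
  let H : Grpd.GroupoidScheme Y := Coeq6.Action.ofRel X R f (s ≫ f) s t rfl hst.symm (fun a b h₁ h₂ => joint a b h₁ h₂)
    e hes het i his hit c hcs hct
  obtain ⟨f1, f2, f3⟩ := rs_flags f hρ
  haveI : IsFinite H.s := f1
  haveI : Flat H.s := f2
  haveI : LocallyOfFinitePresentation H.s := f3
  haveI : Mono H.j := ⟨fun {T} a b h => by
    refine joint a b ?_ ?_
    · have := congrArg (· ≫ pullback.fst H.pU H.pU) h
      simp only [Category.assoc, Grpd.GroupoidScheme.j, pullback.lift_fst] at this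
      exact this
    · have := congrArg (· ≫ pullback.snd H.pU H.pU) h
      simp only [Category.assoc, Grpd.GroupoidScheme.j, pullback.lift_snd] at this
      exact this⟩
  haveI := hp.affine
  haveI : Surjective p := ⟨Base.surjective hp⟩
  have hinv : Base.srcMap ρ ≫ p = Base.actMap ρ ≫ p := (Base.isQuot hp).w
  haveI : Epi (cover f hρ) := Flat.epi_of_flat_of_surjective _
  have hw : t ≫ p = s ≫ p := by
    rw [← cancel_epi (cover f hρ)]
    exact (Category.assoc _ _ _).symm.trans ((congrArg (· ≫ p) (cover_t f hρ)).trans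
      (hinv.symm.trans ((congrArg (· ≫ p) (cover_s f hρ)).symm.trans (Category.assoc _ _ _))))
  have hrel : ∀ r : R, ∃ g : G, (ρ g).hom (s r) = t r := fun r => by
    obtain ⟨g, x, hx⟩ := TopologicalSpace.Opens.mem_iSup.1 r.2
    refine ⟨g, ?_⟩
    have e1 : s r = x := by
      show pullback.fst f f r.1 = x
      rw [← hx, ← Scheme.Hom.comp_apply, graph_fst]; rfl
    have e2 : t r = (ρ g).hom x := by
      show pullback.snd f f r.1 = _
      rw [← hx, ← Scheme.Hom.comp_apply, graph_snd]
    rw [e1, e2]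
  have hb : ∀ x : H.U, ∃ V : H.U.Opens, IsAffineOpen V ∧ H.t.base '' (H.s.base ⁻¹' {x}) ⊆ (V : Set H.U) := by
    intro x
    obtain ⟨_, ⟨W, hW, rfl⟩, hxW, -⟩ := X'.isBasis_affineOpens.exists_subset_of_mem_open (Set.mem_univ (p x)) isOpen_univ
    refine ⟨p ⁻¹ᵁ W, IsAffineOpen.preimage hW p, ?_⟩
    rintro _ ⟨r, hr, rfl⟩
    show p (t r) ∈ W
    rw [← Scheme.Hom.comp_apply, hw, Scheme.Hom.comp_apply, show s r = x from hr]
    exact hxW
  have HQ := Base.isQuot hp
  have hdesc : ∀ {Z : Scheme.{u}} (k : X ⟶ Z), t ≫ k = s ≫ k → Base.srcMap ρ ≫ k = Base.actMap ρ ≫ k := fun k hk => by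
    rw [← cover_s f hρ, ← cover_t f hρ, Category.assoc, Category.assoc]; exact congrArg _ hk.symm
  obtain ⟨hP, h₁, h₂, h₃⟩ := Coeq6.Main.isPullback_finLocFree H hb X' p hw
    (Cofork.IsColimit.mk _ (fun c => (Coeq6.Pred.exists_desc HQ c.π (hdesc _ c.condition)).choose)
      (fun c => (Coeq6.Pred.exists_desc HQ c.π (hdesc _ c.condition)).choose_spec)
      (fun c m hm => Coeq6.Pred.unique_desc HQ _ _ (hm.trans (Coeq6.Pred.exists_desc HQ c.π (hdesc _ c.condition)).choose_spec.symm)))
  haveI : IsFinite p := h₁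
  haveI : Flat p := h₂
  have hpet : Etale p :=
    MorphismProperty.of_isPullback_of_descendsAlong (P := @Etale) (Q := @Surjective ⊓ @Flat ⊓ @QuasiCompact)
      (g := p) (f := p) (fst := s) (snd := t) hP.flip ⟨⟨inferInstance, inferInstance⟩, inferInstance⟩
      (show Etale s from inferInstance)
  have hqet : Etale q := AlgSpTopo.etaleLocal_etale.descend p q hpet inferInstance (by rw [hq]; infer_instance)
  refine ⟨hpet, hqet, fun hfin => ?_⟩
  obtain ⟨h_aff, h_sep, -, h_ft⟩ := Props.main hp f q hq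
  haveI : IsSeparated q := h_sep.1 inferInstance
  haveI : UniversallyClosed (p ≫ q) := by rw [hq]; infer_instance
  haveI : UniversallyClosed q := UniversallyClosed.of_comp_surjective p q
  haveI : QuasiCompact q := (h_ft inferInstance inferInstance inferInstance).2
  haveI : IsProper q := { }
  haveI : LocallyQuasiFinite q := AlgSpTopo.etaleLocal_locallyQuasiFinite.of_etale _ hqet
  exact IsFinite.of_isProper_of_locallyQuasiFinite q

end Groth.Agent.SGA1Q.EtaleQuot

end
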