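import Groth.Agent.SGA1Q.Affine
import Groth.Agent.Coeq6.Transport

/-!
A map which is chartwise an affine quotient by a finite group is a quotient.
-/

universe u

open CategoryTheory AlgebraicGeometry Limits

set_option linter.style.haveILetI false
set_option linter.unusedSectionVars false
set_option backward.isDefEq.respectTransparency.types false

noncomputable section

namespace Groth.Agent.SGA1Q.OfCover

variable {X Y : Scheme.{u}} {G : Type u} [Group G] [Finite G] (ρ : G →* Aut X) (p : X ⟶ Y)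

/-- an affine chart on which the map is a quotient -/
structure Chart where
  /-- the chart of the target -/
  M : Scheme.{u}
  /-- the chart of the source -/
  U : Scheme.{u}
  [affM : IsAffine M]
  [affU : IsAffine U]
  /-- the inclusion in the target -/
  k : M ⟶ Y
  /-- the inclusion in the source -/
  j : U ⟶ X
  [openk : IsOpenImmersion k]
  [openj : IsOpenImmersion j]
  /-- the map on the chart -/
  q : U ⟶ M
  fac : q ≫ k = j ≫ p
  range_j : Set.range j = p ⁻¹' Set.range k
  inj : Function.Injective q.appTop.hom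
  fixed : ∀ a, (∀ (g : G) (f : U ⟶ U), f ≫ j = j ≫ (ρ g).hom → f.appTop.hom a = a) → a ∈ Set.range q.appTop.hom

attribute [instance] Chart.affM Chart.affU Chart.openk Chart.openj

variable {ρ p} (hinv : ∀ g : G, (ρ g).hom ≫ p = p) (C : Chart ρ p)

/-- an element on the chart -/
def res (g : G) : C.U ⟶ C.U := IsOpenImmersion.lift C.j (C.j ≫ (ρ g).hom) (by
  rintro _ ⟨x, rfl⟩
  rw [C.range_j]
  show p ((C.j ≫ (ρ g).hom) x) ∈ Set.range C.k
  rw [← Scheme.Hom.comp_apply, Category.assoc, hinv g, ← C.fac]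
  exact ⟨C.q x, rfl⟩)

@[reassoc (attr := simp)]
theorem res_j (g : G) : res hinv C g ≫ C.j = C.j ≫ (ρ g).hom := IsOpenImmersion.lift_fac _ _ _

theorem res_mul (g h : G) : res hinv C (g * h) = res hinv C h ≫ res hinv C g := by
  rw [← cancel_mono C.j]
  simp only [Category.assoc, res_j, res_j_assoc, map_mul]
  rfl

theorem res_one : res hinv C 1 = 𝟙 _ := by
  rw [← cancel_mono C.j, res_j, map_one]
  show C.j ≫ 𝟙 X = _
  simp

/-- the action on a chart -/
def act : G →* Aut C.U where
  toFun g := ⟨res hinv C g, res hinv C g⁻¹, by rw [← res_mul, inv_mul_cancel, res_one],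
    by rw [← res_mul, mul_inv_cancel, res_one]⟩
  map_one' := Iso.ext (res_one hinv C)
  map_mul' g h := Iso.ext (res_mul hinv C g h)

theorem chart : Coeq6.Pred.IsQuot (Base.srcMap (act hinv C)) (Base.actMap (act hinv C)) C.q := by
  refine (AffineQ.main (fun g => ?_) C.inj fun a ha => C.fixed a fun g f hf => ?_).1
  · rw [← cancel_mono C.k, Category.assoc, C.fac]
    show res hinv C g ≫ _ = _
    rw [res_j_assoc, hinv g]
  · have : f = (act hinv C g).hom := by
      rw [← cancel_mono C.j, hf]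
      exact (res_j hinv C g).symm
    rw [this]
    exact ha g

include hinv in
theorem main (h : ∀ y : Y, ∃ C : Chart ρ p, y ∈ Set.range C.k) : SGA1.IsQuot ρ p := by
  choose C hC using h
  have haff : IsAffineHom p := by
    refine (HasAffineProperty.iff_of_iSup_eq_top (P := @IsAffineHom)
      (fun y => (⟨(C y).k.opensRange, isAffineOpen_opensRange _⟩ : Y.affineOpens))
      (eq_top_iff.2 fun y _ => TopologicalSpace.Opens.mem_iSup.2 ⟨y, hC y⟩)).2 fun y => ?_
    have e : p ⁻¹ᵁ (C y).k.opensRange = (C y).j.opensRange := TopologicalSpace.Opens.ext (C y).range_j.symm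
    show IsAffine (p ⁻¹ᵁ (C y).k.opensRange).toScheme
    rw [e]
    exact isAffineOpen_opensRange _
  refine OfPred.isQuot ⟨Sigma.hom_ext _ _ fun g => by simp [hinv g], fun y => ?_, fun O hO => ?_, fun x y hxy => ?_,
    fun y V hy => ?_⟩ haff
  · obtain ⟨D, m, rfl⟩ : ∃ D : Chart ρ p, y ∈ Set.range D.k := ⟨C y, hC y⟩
    obtain ⟨x, rfl⟩ := (chart hinv D).surj m
    exact ⟨D.j x, (congrArg (fun f => f x) D.fac).symm⟩
  · have : p '' O = ⋃ D : Chart ρ p, D.k '' (D.q '' (D.j ⁻¹' O)) := by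
      ext z
      simp only [Set.mem_iUnion, Set.mem_image, Set.mem_preimage]
      constructor
      · rintro ⟨x, hx, rfl⟩
        obtain ⟨D, hD⟩ : ∃ D : Chart ρ p, p x ∈ Set.range D.k := ⟨C _, hC _⟩
        obtain ⟨u, rfl⟩ := D.range_j.ge hD
        exact ⟨D, _, ⟨u, hx, rfl⟩, congrArg (fun f => f u) D.fac⟩
      · rintro ⟨D, _, ⟨u, hu, rfl⟩, rfl⟩
        exact ⟨_, hu, (congrArg (fun f => f u) D.fac).symm⟩
    rw [this]
    exact isOpen_iUnion fun D => D.k.isOpenEmbedding.isOpenMap _
      ((chart hinv D).isOpenMap _ (hO.preimage D.j.continuous))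
  · obtain ⟨D, hD⟩ : ∃ D : Chart ρ p, p x ∈ Set.range D.k := ⟨C _, hC _⟩
    obtain ⟨u, rfl⟩ := D.range_j.ge hD
    obtain ⟨v, rfl⟩ : y ∈ Set.range D.j := D.range_j.ge (show p y ∈ Set.range D.k from hxy ▸ hD)
    obtain ⟨r, hr₁, hr₂⟩ := (chart hinv D).rel u v (D.k.isOpenEmbedding.injective (by
      rw [← Scheme.Hom.comp_apply, ← Scheme.Hom.comp_apply, D.fac]
      exact hxy))
    refine ⟨Sigma.desc (fun g => D.j ≫ Sigma.ι (fun _ : G => X) g) r, ?_, ?_⟩
    · rw [← hr₁, ← Scheme.Hom.comp_apply, ← Scheme.Hom.comp_apply]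
      refine congrArg (fun f : (∐ fun _ : G => D.U) ⟶ X => f r) (Sigma.hom_ext _ _ fun g => ?_)
      simp only [Sigma.ι_desc_assoc, Category.assoc, Sigma.ι_desc, colimit.ι_desc_assoc, Cofan.mk_ι_app]
      exact (res_j hinv D g).symm
    · rw [← hr₂, ← Scheme.Hom.comp_apply, ← Scheme.Hom.comp_apply]
      refine congrArg (fun f : (∐ fun _ : G => D.U) ⟶ X => f r) (Sigma.hom_ext _ _ fun g => ?_)
      simp
  · obtain ⟨D, m, rfl⟩ : ∃ D : Chart ρ p, y ∈ Set.range D.k := ⟨C y, hC y⟩
    let W := D.j.opensRange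
    haveI hjR : IsOpenImmersion (Sigma.desc fun g => D.j ≫ Sigma.ι (fun _ : G => X) g) := by
      refine isOpenImmersion_sigmaDesc _ _ fun a b hab => Set.disjoint_left.2 ?_
      rintro _ ⟨x, rfl⟩ ⟨z, hz⟩
      exact Set.disjoint_left.1 (TopologicalSpace.Opens.coe_disjoint.2 (disjoint_opensRange_sigmaι (fun _ : G => X) a b hab))
        ⟨D.j x, rfl⟩ ⟨D.j z, hz⟩
    refine Coeq6.Transport.loc_image (Sigma.desc fun g => D.j ≫ Sigma.ι (fun _ : G => X) g) D.j D.k (chart hinv D)
      (Sigma.hom_ext _ _ fun g => by simp) (Sigma.hom_ext _ _ fun g => by simp; exact res_j hinv D g) D.fac D.range_j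
      ?_ m V hy
    ext r
    constructor
    · rintro ⟨z, rfl⟩
      obtain ⟨g, w, rfl⟩ := (sigmaOpenCover fun _ : G => D.U).exists_eq z
      refine ⟨w, ?_⟩
      have : Sigma.ι (fun _ : G => D.U) g ≫ (Sigma.desc fun g => D.j ≫ Sigma.ι (fun _ : G => X) g) ≫ Base.srcMap ρ = D.j := by
        simp
      exact (congrArg (fun f => f w) this).symm
    · rintro ⟨w, hw⟩
      obtain ⟨g, z, rfl⟩ := (sigmaOpenCover fun _ : G => X).exists_eq r
      refine ⟨Sigma.ι (fun _ : G => D.U) g w, ?_⟩
      rw [← Scheme.Hom.comp_apply, Sigma.ι_desc, Scheme.Hom.comp_apply]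
      congr 1
      refine hw.trans ?_
      show Base.srcMap ρ (Sigma.ι (fun _ : G => X) g z) = z
      rw [← Scheme.Hom.comp_apply, Sigma.ι_desc]; rfl

end Groth.Agent.SGA1Q.OfCover

end
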