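import Groth.Agent.SGA1Q.Base
import Groth.Agent.Coeq6.Transport
import Groth.Agent.Coeq6.Affine
import Mathlib.Algebra.Polynomial.Eval.Defs
import Mathlib.Algebra.Polynomial.Eval.Coeff

/-!
A coequalizer quotient is a quotient in the sense of sections.
-/

universe u

open CategoryTheory AlgebraicGeometry Limits Polynomial

set_option linter.style.haveILetI false
set_option backward.isDefEq.respectTransparency.types false

noncomputable section

namespace Groth.Agent.SGA1Q.OfPred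

variable {X Y : Scheme.{u}} {G : Type u} [Group G] [Finite G] {ρ : G →* Aut X} {p : X ⟶ Y}

/-- polynomials in one variable over the integers -/
abbrev line : CommRingCat.{u} := CommRingCat.of (ULift.{u} ℤ)[X]

/-- a function as a map to the affine line -/
def toLine {U : Scheme.{u}} (a : Γ(U, ⊤)) : U ⟶ Spec line :=
  U.toSpecΓ ≫ Spec.map (CommRingCat.ofHom (eval₂RingHom ((Int.castRingHom _).comp ULift.ringEquiv.toRingHom) a))

/-- a map to the affine line as a function -/
def ofLine {U : Scheme.{u}} (f : U ⟶ Spec line) : Γ(U, ⊤) :=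
  f.appTop.hom ((Scheme.ΓSpecIso line).inv.hom Polynomial.X)

theorem ofLine_toLine {U : Scheme.{u}} (a : Γ(U, ⊤)) : ofLine (toLine a) = a := by
  let φ : line ⟶ Γ(U, ⊤) := CommRingCat.ofHom (eval₂RingHom ((Int.castRingHom _).comp ULift.ringEquiv.toRingHom) a)
  show ((U.toSpecΓ ≫ Spec.map φ).appTop).hom ((Scheme.ΓSpecIso line).inv.hom Polynomial.X) = a
  have h : (Scheme.ΓSpecIso line).inv ≫ (U.toSpecΓ ≫ Spec.map φ).appTop = φ := by
    rw [Scheme.Hom.comp_appTop, Scheme.toSpecΓ_appTop]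
    erw [Scheme.ΓSpecIso_naturality φ, Iso.inv_hom_id_assoc]
  exact (congrArg (fun m => m.hom Polynomial.X) h).trans (eval₂_X _ _)

theorem ofLine_comp {T U : Scheme.{u}} (h : T ⟶ U) (f : U ⟶ Spec line) : ofLine (h ≫ f) = h.appTop.hom (ofLine f) := by
  simp only [ofLine, Scheme.Hom.comp_appTop]; rfl

theorem toLine_comp {T U : Scheme.{u}} (h : T ⟶ U) (a : Γ(U, ⊤)) : h ≫ toLine a = toLine (h.appTop.hom a) := by
  rw [toLine, toLine, Scheme.toSpecΓ_naturality_assoc, ← Spec.map_comp]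
  congr 2
  apply CommRingCat.hom_ext
  refine Polynomial.ringHom_ext' ?_ (by simp)
  refine RingHom.ext fun n => ?_
  rw [show n = ((n.down : ℤ) : ULift.{u} ℤ) from ULift.ext _ _ (by simp), map_intCast, map_intCast]

omit [Finite G] in
theorem isQuot (H : Coeq6.Pred.IsQuot (Base.srcMap ρ) (Base.actMap ρ) p) (haff : IsAffineHom p) :
    SGA1.IsQuot ρ p := by
  have hinv : ∀ g : G, (ρ g).hom ≫ p = p := fun g => by
    have h := congrArg (fun m => Sigma.ι (fun _ : G => X) g ≫ m) H.w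
    simpa using h.symm
  have hres : ∀ U : Y.Opens, (p ∣_ U).appTop = U.topIso.hom ≫ p.app U ≫ (p ⁻¹ᵁ U).topIso.inv := fun U => by
    rw [← Scheme.Hom.resLE_eq_morphismRestrict]
    exact (Scheme.Hom.resLE_app_top _ _).trans (by rw [Scheme.Hom.app_eq_appLE])
  have happ : ∀ (U : Y.Opens) (b : Γ(Y, U)), (p.app U).hom b =
      (p ⁻¹ᵁ U).topIso.hom.hom ((p ∣_ U).appTop.hom (U.topIso.inv.hom b)) := fun U b => by
    have h : U.topIso.inv ≫ (p ∣_ U).appTop ≫ (p ⁻¹ᵁ U).topIso.hom = p.app U := by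
      simp only [hres, Category.assoc, Iso.inv_hom_id_assoc, Iso.inv_hom_id, Category.comp_id]
    exact (congrArg (fun m => m.hom b) h).symm
  refine ⟨haff, hinv, fun U a b hab => ?_, fun U x => ⟨?_, fun hx => ?_⟩⟩
  · have h1 : (p ∣_ U).appTop.hom (U.topIso.inv.hom a) = (p ∣_ U).appTop.hom (U.topIso.inv.hom b) := by
      apply (p ⁻¹ᵁ U).topIso.commRingCatIsoToRingEquiv.injective
      show (p ⁻¹ᵁ U).topIso.hom.hom _ = (p ⁻¹ᵁ U).topIso.hom.hom _
      rw [← happ, ← happ, hab]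
    have h2 : p ∣_ U ≫ toLine (U.topIso.inv.hom a) = p ∣_ U ≫ toLine (U.topIso.inv.hom b) := by
      rw [toLine_comp, toLine_comp, h1]
    have h3 := congrArg ofLine (Coeq6.Pred.epi H U _ _ h2)
    rw [ofLine_toLine, ofLine_toLine] at h3
    exact U.topIso.commRingCatIsoToRingEquiv.symm.injective h3
  · rintro ⟨b, rfl⟩ g
    have key : ∀ (f : X ⟶ Y) (e : p ⁻¹ᵁ U ≤ f ⁻¹ᵁ U), f = p →
        (f.appLE U (p ⁻¹ᵁ U) e).hom b = (p.app U).hom b := by
      rintro f e rfl
      rw [Scheme.Hom.app_eq_appLE]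
    refine Eq.trans ?_ (key ((ρ g).hom ≫ p) (by rw [hinv g]) (hinv g))
    rw [Scheme.Hom.app_eq_appLE]
    exact congrArg (fun m => m.hom b) (Scheme.Hom.appLE_comp_appLE (ρ g).hom p U (p ⁻¹ᵁ U) (p ⁻¹ᵁ U) le_rfl
      (by rw [← Scheme.Hom.comp_preimage, hinv g]))
  · let O := p ⁻¹ᵁ U
    let R := ∐ fun _ : G => X
    let O' : R.Opens := Base.srcMap ρ ⁻¹ᵁ O
    have e₂ : O' ≤ Base.actMap ρ ⁻¹ᵁ O := fun r hr => by
      show p (Base.actMap ρ r) ∈ U
      rw [← Scheme.Hom.comp_apply, ← H.w]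
      exact hr
    have H' : Coeq6.Pred.IsQuot (Base.srcMap ρ ∣_ O) ((Base.actMap ρ).resLE O O' e₂) (p ∣_ U) :=
      Coeq6.Transport.restrict O'.ι O.ι U.ι H (morphismRestrict_ι _ _) (Scheme.Hom.resLE_comp_ι _ _)
        (morphismRestrict_ι _ _) (by rw [Scheme.Opens.range_ι, Scheme.Opens.range_ι]; rfl)
        (by rw [Scheme.Opens.range_ι, Scheme.Opens.range_ι]; rfl)
    let f := toLine (O.topIso.inv.hom x)
    obtain ⟨u, hu⟩ := Coeq6.Pred.exists_desc H' f (by
      let P : G → O'.toScheme.Opens := fun g => O'.ι ⁻¹ᵁ (Sigma.ι (fun _ : G => X) g).opensRange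
      refine (O'.toScheme.openCoverOfIsOpenCover P (TopologicalSpace.IsOpenCover.mk (eq_top_iff.2 fun r _ => ?_))).hom_ext _ _
        fun (g : G) => ?_
      · obtain ⟨g, z, hz⟩ := (sigmaOpenCover fun _ : G => X).exists_eq (O'.ι r)
        exact TopologicalSpace.Opens.mem_iSup.2 ⟨g, z, hz⟩
      · let j := Sigma.ι (fun _ : G => X) g
        let z : (P g).toScheme ⟶ X := IsOpenImmersion.lift j ((P g).ι ≫ O'.ι) (by
          rintro _ ⟨w, rfl⟩; exact w.2)
        have hz : z ≫ j = (P g).ι ≫ O'.ι := IsOpenImmersion.lift_fac _ _ _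
        let a := (P g).ι ≫ Base.srcMap ρ ∣_ O
        have hzO : z = a ≫ O.ι := by
          simp only [a, Category.assoc, morphismRestrict_ι]
          rw [← reassoc_of% hz]; simp [j]
        have eρ : O ≤ (ρ g).hom ⁻¹ᵁ O := SGA1.preimage_le_of_inv ρ p hinv g U
        have hb : (P g).ι ≫ (Base.actMap ρ).resLE O O' e₂ = a ≫ (ρ g).hom.resLE O O eρ := by
          rw [← cancel_mono O.ι]
          simp only [Category.assoc, Scheme.Hom.resLE_comp_ι]
          rw [← Category.assoc (P g).ι, ← hz, ← reassoc_of% hzO]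
          simp [j]
        show (P g).ι ≫ _ = (P g).ι ≫ _
        rw [reassoc_of% hb]
        show a ≫ f = _
        have hx' : ((ρ g).hom.resLE O O eρ).appTop.hom (O.topIso.inv.hom x) = O.topIso.inv.hom x := by
          have h : O.topIso.inv ≫ ((ρ g).hom.resLE O O eρ).appTop = (ρ g).hom.appLE O O eρ ≫ O.topIso.inv := by
            rw [show ((ρ g).hom.resLE O O eρ).appTop = _ from Scheme.Hom.resLE_app_top _ _, Iso.inv_hom_id_assoc]
          exact (congrArg (fun m => m.hom x) h).trans (congrArg O.topIso.inv.hom (hx g))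
        rw [toLine_comp ((ρ g).hom.resLE O O eρ), hx'])
    refine ⟨U.topIso.hom.hom (ofLine u), ?_⟩
    rw [happ, show U.topIso.inv.hom (U.topIso.hom.hom (ofLine u)) = ofLine u from
      U.topIso.commRingCatIsoToRingEquiv.symm_apply_apply _, ← ofLine_comp, hu, ofLine_toLine]
    exact O.topIso.commRingCatIsoToRingEquiv.apply_symm_apply x

end Groth.Agent.SGA1Q.OfPred

end
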